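import Cfsg.Agent.DihedralBlock.Table

/-!
# The labelling of the principal 2-block with a dihedral Sylow 2-subgroup
-/

set_option autoImplicit false
set_option linter.style.haveILetI false

namespace CfsgLib.DihedralBlock

open Cfsg CfsgLib.Blocks CfsgLib.FusionTwo

universe u

variable {G : Type u} [Group G] [Finite G] {S : Sylow 2 G} {n : ℕ} {x y : G} {M : Ideal AlgInt}
  {ψ : AddChar (ZMod (2 ^ n)) ℂ}

omit [Finite G] in
theorem natCast_eq_zero_iff' {k : ℕ} (hn : 1 ≤ n) (hk : k ≤ 2 ^ (n - 1)) :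
    (k : ZMod (2 ^ n)) = 0 ↔ k = 0 := by
  refine ⟨fun e => ?_, fun e => by rw [e, Nat.cast_zero]⟩
  rw [ZMod.natCast_eq_zero_iff] at e
  have h2 : 2 ^ n = 2 * 2 ^ (n - 1) := by rw [← pow_succ']; congr 1; omega
  have h3 : 0 < 2 ^ (n - 1) := Nat.two_pow_pos _
  by_contra h0
  have := Nat.le_of_dvd (by omega) e
  omega

theorem natCast_inj_iff {k l : ℕ} (hn : 1 ≤ n) (hk : k ≤ 2 ^ (n - 1)) (hl : l ≤ 2 ^ (n - 1)) :
    (k : ZMod (2 ^ n)) = l ↔ k = l := by
  refine ⟨fun e => ?_, fun e => by rw [e]⟩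
  rw [ZMod.natCast_eq_natCast_iff'] at e
  have h2 : 2 ^ n = 2 * 2 ^ (n - 1) := by rw [← pow_succ']; congr 1; omega
  have h3 : 0 < 2 ^ (n - 1) := Nat.two_pow_pos _
  rwa [Nat.mod_eq_of_lt (by omega), Nat.mod_eq_of_lt (by omega)] at e

theorem natCast_eq_neg_iff {k l : ℕ} (hn : 1 ≤ n) (hk1 : 1 ≤ k) (hk : k ≤ 2 ^ (n - 1))
    (hl : l ≤ 2 ^ (n - 1)) :
    (k : ZMod (2 ^ n)) = -(l : ZMod (2 ^ n)) ↔ k = 2 ^ (n - 1) ∧ l = 2 ^ (n - 1) := by
  have h2 : 2 ^ n = 2 * 2 ^ (n - 1) := by rw [← pow_succ']; congr 1; omega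
  rw [eq_neg_iff_add_eq_zero, ← Nat.cast_add, ZMod.natCast_eq_zero_iff, h2]
  refine ⟨fun e => ?_, fun e => ⟨1, by omega⟩⟩
  have := Nat.le_of_dvd (by omega) e
  omega

/-- Every non-zero exponent is `±k` for some `1 ≤ k ≤ N/2`. -/
theorem exists_rep (hn : 1 ≤ n) {j : ZMod (2 ^ n)} (hj : j ≠ 0) :
    ∃ k : ℕ, 1 ≤ k ∧ k ≤ 2 ^ (n - 1) ∧ (j = (k : ZMod (2 ^ n)) ∨ j = -(k : ZMod (2 ^ n))) := by
  have h2 : 2 ^ n = 2 * 2 ^ (n - 1) := by rw [← pow_succ']; congr 1; omega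
  have h1 : 1 ≤ j.val := Nat.one_le_iff_ne_zero.2 fun e => hj ((ZMod.val_eq_zero j).1 e)
  have hlt := ZMod.val_lt j
  rcases Nat.lt_or_ge (2 ^ (n - 1)) j.val with hge | hle
  · refine ⟨2 ^ n - j.val, by omega, by omega, Or.inr ?_⟩
    rw [Nat.cast_sub hlt.le, ZMod.natCast_self, zero_sub, neg_neg, ZMod.natCast_zmod_val]
  · exact ⟨j.val, h1, hle, Or.inl (ZMod.natCast_zmod_val j).symm⟩

theorem apply_half (hψ : ψ.IsPrimitive) (h : IsDihGen (S : Subgroup G) n x y) :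
    ψ (half n) = -1 := by
  have hsq : ψ (half n) * ψ (half n) = 1 := by
    rw [← AddChar.map_add_eq_mul, add_eq_zero_iff_eq_neg.2 (neg_half h).symm,
      AddChar.map_zero_eq_one]
  rcases mul_self_eq_one_iff.1 hsq with e | e
  · exfalso
    have hs := sum_char hψ (half n)
    have hall : ∀ a : ZMod (2 ^ n), ψ (half n * a) = 1 := fun a => by
      rw [show half n * a = a.val • half n by
        rw [nsmul_eq_mul, ZMod.natCast_zmod_val, mul_comm], AddChar.map_nsmul_eq_pow, e, one_pow]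
    rw [Finset.sum_congr rfl fun a _ => hall a, if_neg (half_ne_zero h)] at hs
    simp at hs
  · exact e

/-- A member of the block whose column at the rotations vanishes is impossible. -/
theorem false_of_vanishing (hM : IsPModular 2 M) {χ : IrrCharacter G} (hχ : χ ∈ B0 M)
    (h1 : χ ≠ Chars.oneChar G) (hvan : ∀ t : G, orderOf t = 2 → (χ : G → ℂ) t = 0) : False := by
  classical
  haveI : Fact (Nat.Prime 2) := ⟨Nat.prime_two⟩
  haveI := isMaximal_of_isPModular hM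
  have hf := Cfsg.Agent.S0928.result 2 χ hvan
  haveI := Fintype.ofFinite G
  have hd : charDegree (χ : G → ℂ) ∣ Nat.card G := Chars.charDegree_dvd_card χ
  have hnd : ¬ 2 ∣ Nat.card G / charDegree (χ : G → ℂ) := by
    intro hdvd
    have hne : Nat.card G / charDegree (χ : G → ℂ) ≠ 0 :=
      (Nat.div_pos (Nat.le_of_dvd Nat.card_pos hd) (Chars.charDegree_pos χ)).ne'
    have := Nat.prime_two.factorization_pos_of_dvd hne hdvd
    rw [Nat.factorization_div hd, Finsupp.tsub_apply, hf, Nat.sub_self] at this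
    exact lt_irrefl _ this
  have hsing := (Cfsg.Agent.S0914.result 2 M hM χ).1 hnd
  have hmem : Chars.oneChar G ∈ blockOf M (χ : G → ℂ) := by
    rw [← eq_blockOf_of_mem (isPBlock_principalBlock (M := M) (G := G)) (mem_B0.1 hχ)]
    exact mem_B0.1 (oneChar_mem_B0 hM)
  rw [hsing, Set.mem_singleton_iff] at hmem
  exact h1 hmem.symm

/-- The labelling of the block. -/
theorem exists_table (h : IsDihGen (S : Subgroup G) n x y) (hn : 2 ≤ n) (hM : IsPModular 2 M)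
    (hψ : ψ.IsPrimitive) :
    ∃ (C Y Z : IrrCharacter G) (U : ℕ → IrrCharacter G) (a b c : ℤ), (a = 1 ∨ a = -1) ∧
      (b = 1 ∨ b = -1) ∧ (c = 1 ∨ c = -1) ∧ C ≠ Chars.oneChar G ∧ Y ≠ Chars.oneChar G ∧
      Z ≠ Chars.oneChar G ∧ C ≠ Y ∧ C ≠ Z ∧ Y ≠ Z ∧
      (∀ k, 1 ≤ k → k < 2 ^ (n - 1) →
        U k ≠ Chars.oneChar G ∧ U k ≠ C ∧ U k ≠ Y ∧ U k ≠ Z) ∧
      (∀ k l, 1 ≤ k → k < 2 ^ (n - 1) → 1 ≤ l → l < 2 ^ (n - 1) → U k = U l → k = l) ∧
      (∀ χ, χ ∈ principalBlock M G ↔ χ = Chars.oneChar G ∨ χ = C ∨ χ = Y ∨ χ = Z ∨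
        ∃ k, 1 ≤ k ∧ k < 2 ^ (n - 1) ∧ χ = U k) ∧
      (∀ μ : ZMod (2 ^ n), μ ≠ 0 → rotVal x C μ = -a ∧ rotVal x Y μ = b * ψ (half n * μ) ∧
        rotVal x Z μ = c * ψ (half n * μ) ∧ ∀ k, 1 ≤ k → k < 2 ^ (n - 1) →
          rotVal x (U k) μ = -a * (ψ ((k : ZMod (2 ^ n)) * μ) + ψ (-((k : ZMod (2 ^ n)) * μ)))) ∧
      ∀ r : G, ¬ 2 ∣ orderOf r →
        (a : ℂ) * (C : G → ℂ) r + b * (Y : G → ℂ) r + c * (Z : G → ℂ) r = 1 ∧
        ∀ k, 1 ≤ k → k < 2 ^ (n - 1) →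
          (a : ℂ) * (C : G → ℂ) r - a * (U k : G → ℂ) r = 1 := by
  classical
  have hn1 : 1 ≤ n := h.one_le
  set H := 2 ^ (n - 1) with hH
  have hH2 : 2 ≤ H := le_trans (by norm_num) (Nat.pow_le_pow_right (by norm_num) (by omega : 1 ≤ n - 1))
  have hH4 : H = 2 ∨ 4 ≤ H := by
    rcases (show n - 1 = 1 ∨ 2 ≤ n - 1 by omega) with e | e
    · left; rw [hH, e, pow_one]
    · right; exact le_trans (by norm_num) (Nat.pow_le_pow_right (by norm_num) e)
  choose d hd using fun χ : IrrCharacter G => exists_int_coef (ψ := ψ) h χ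
  have hK0 : ∀ k, 1 ≤ k → k ≤ H → (k : ZMod (2 ^ n)) ≠ 0 := fun k hk1 hk e => by
    have := (natCast_eq_zero_iff' hn1 hk).1 e
    omega
  set s := (B0 M).erase (Chars.oneChar G) with hs
  set w : ℕ → IrrCharacter G → ℤ := fun k χ => d χ (k : ZMod (2 ^ n)) with hw
  have hwc : ∀ k χ, (w k χ : ℂ) = coef x ψ χ (k : ZMod (2 ^ n)) := fun k χ => (hd χ _).symm
  have hgram : ∀ k l, 1 ≤ k → k ≤ H → 1 ≤ l → l ≤ H → ∑ χ ∈ s, w k χ * w l χ =
      1 + (if k = l then 1 else 0) + (if k = H ∧ l = H then 1 else 0) := by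
    intro k l hk1 hk hl1 hl
    have h0 := gram_coef (ψ := ψ) h hM hψ (hK0 k hk1 hk) (hK0 l hl1 hl)
    rw [← Finset.add_sum_erase _ _ (oneChar_mem_B0 hM), coef_one hψ (hK0 k hk1 hk),
      coef_one hψ (hK0 l hl1 hl)] at h0
    simp only [natCast_inj_iff hn1 hk hl, natCast_eq_neg_iff hn1 hk1 hk hl, ← hwc, ← hH, ← hs] at h0
    have h1 : ((∑ χ ∈ s, w k χ * w l χ : ℤ) : ℂ) =
        ((1 + (if k = l then 1 else 0) + (if k = H ∧ l = H then 1 else 0) : ℤ) : ℂ) := by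
      push_cast
      linear_combination h0
    exact_mod_cast h1
  set deg : IrrCharacter G → ℤ := fun χ => (charDegree (χ : G → ℂ) : ℤ) with hdeg'
  have hreg : ∀ k, 1 ≤ k → k ≤ H → ∀ r : G, ¬ 2 ∣ orderOf r →
      ∑ χ ∈ s, (w k χ : ℂ) * (χ : G → ℂ) r = 1 := by
    intro k hk1 hk r hr
    have h0 := sum_coef_regular (ψ := ψ) h hM (k : ZMod (2 ^ n)) hr
    rw [← Finset.add_sum_erase _ _ (oneChar_mem_B0 hM), coef_one hψ (hK0 k hk1 hk),
      Chars.oneChar_apply, mul_one, neg_add_eq_zero] at h0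
    simp only [hwc]
    exact h0.symm
  have hdegsum : ∀ k, 1 ≤ k → k ≤ H → ∑ χ ∈ s, w k χ * deg χ = 1 := by
    intro k hk1 hk
    have h0 := hreg k hk1 hk 1 (by rw [orderOf_one]; norm_num)
    have h1 : ((∑ χ ∈ s, w k χ * deg χ : ℤ) : ℂ) = ((1 : ℤ) : ℂ) := by
      push_cast
      rw [← h0]
      refine Finset.sum_congr rfl fun χ _ => ?_
      rw [← Chars.coe_charDegree χ]
      simp [hdeg']
    exact_mod_cast h1
  obtain ⟨C, Y, Z, U, a, b, c, ha, hb, hc, hC, hY, hZ, hCY, hCZ, hYZ, hU, hUinj, hlast, hedge⟩ :=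
    Star.exists_star (s := s) (w := w) (deg := deg) hH4
      (fun χ _ => Nat.cast_pos.2 (Chars.charDegree_pos χ))
      (fun k hk1 hk => by rw [hgram k k hk1 hk.le hk1 hk.le, if_pos rfl,
        if_neg (fun e => hk.ne e.1)]; norm_num)
      (by rw [hgram H H (by omega) le_rfl (by omega) le_rfl, if_pos rfl, if_pos ⟨rfl, rfl⟩]; norm_num)
      (fun k l hk1 hk hl1 hl hne => by rw [hgram k l hk1 hk hl1 hl, if_neg hne,
        if_neg (fun e => hne (e.1.trans e.2.symm))]; norm_num)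
      hdegsum
  have hs' : ∀ χ ∈ s, χ ≠ Chars.oneChar G ∧ χ ∈ principalBlock M G := fun χ hχ =>
    ⟨(Finset.mem_erase.1 hχ).1, mem_B0.1 (Finset.mem_erase.1 hχ).2⟩
  -- the coefficient at an arbitrary exponent
  have hcoef : ∀ (χ : IrrCharacter G) (k : ℕ) (j : ZMod (2 ^ n)),
      (j = (k : ZMod (2 ^ n)) ∨ j = -(k : ZMod (2 ^ n))) → coef x ψ χ j = w k χ := by
    intro χ k j hj
    rw [hwc]
    rcases hj with rfl | rfl
    · rfl
    · exact coef_neg h χ _
  have hc0 : ∀ χ, coef x ψ χ 0 = 0 := fun χ => by simp [coef]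
  have hhalf : ((H : ℕ) : ZMod (2 ^ n)) = half n := rfl
  -- the values at the rotations
  have hvalC : ∀ μ : ZMod (2 ^ n), μ ≠ 0 → rotVal x C μ = -a := by
    intro μ hμ
    rw [rotVal_eq_sum hψ C hμ]
    have e : ∀ j : ZMod (2 ^ n), coef x ψ C j * ψ (j * μ) =
        (a : ℂ) * ψ (μ * j) - if j = 0 then (a : ℂ) else 0 := by
      intro j
      by_cases hj : j = 0
      · subst hj; simp [hc0]
      · obtain ⟨k, hk1, hk, hjk⟩ := exists_rep hn1 hj
        rw [hcoef C k j hjk, if_neg hj, sub_zero, mul_comm μ]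
        rcases hk.lt_or_eq with hk' | hk'
        · rw [hedge k hk1 hk' C hC, if_pos rfl]
        · rw [hk', hlast C hC, if_pos rfl]
    simp only [e, Finset.sum_sub_distrib, ← Finset.mul_sum, sum_char hψ, if_neg hμ, mul_zero,
      Finset.sum_ite_eq', Finset.mem_univ, if_true, zero_sub]
  have hvalY : ∀ (V : IrrCharacter G), V ∈ s → V ≠ C → (∀ k, 1 ≤ k → k < H → V ≠ U k) →
      ∀ μ : ZMod (2 ^ n), μ ≠ 0 → rotVal x V μ = w H V * ψ (half n * μ) := by
    intro V hV hVC hVU μ hμ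
    rw [rotVal_eq_sum hψ V hμ, Finset.sum_eq_single (half n)]
    · rw [hcoef V H _ (Or.inl hhalf.symm)]
    · intro j _ hj
      by_cases hj0 : j = 0
      · rw [hj0, hc0, zero_mul]
      obtain ⟨k, hk1, hk, hjk⟩ := exists_rep hn1 hj0
      rcases hk.lt_or_eq with hk' | hk'
      · rw [hcoef V k j hjk, hedge k hk1 hk' V hV, if_neg hVC, if_neg (hVU k hk1 hk'), Int.cast_zero,
          zero_mul]
      · exfalso
        rw [hk', hhalf, neg_half h, or_self] at hjk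
        exact hj hjk
    · intro hh
      exact absurd (Finset.mem_univ _) hh
  have hvalU : ∀ k, 1 ≤ k → k < H → ∀ μ : ZMod (2 ^ n), μ ≠ 0 → rotVal x (U k) μ =
      -a * (ψ ((k : ZMod (2 ^ n)) * μ) + ψ (-((k : ZMod (2 ^ n)) * μ))) := by
    intro k hk1 hk μ hμ
    obtain ⟨hUs, hUC, hUY, hUZ⟩ := hU k hk1 hk
    have hne : (k : ZMod (2 ^ n)) ≠ -(k : ZMod (2 ^ n)) := fun e =>
      hk.ne ((natCast_eq_neg_iff hn1 hk1 hk.le hk.le).1 e).1
    have hw1 : w k (U k) = -a := by rw [hedge k hk1 hk _ hUs, if_neg hUC, if_pos rfl]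
    rw [rotVal_eq_sum hψ _ hμ, ← Finset.sum_subset (Finset.subset_univ
      {(k : ZMod (2 ^ n)), -(k : ZMod (2 ^ n))})]
    · rw [Finset.sum_pair hne, hcoef _ k _ (Or.inl rfl), hcoef _ k _ (Or.inr rfl), hw1, neg_mul]
      push_cast
      ring
    · intro j _ hj
      rw [Finset.mem_insert, Finset.mem_singleton] at hj
      by_cases hj0 : j = 0
      · rw [hj0, hc0, zero_mul]
      obtain ⟨l, hl1, hl, hjl⟩ := exists_rep hn1 hj0
      have hlk : l ≠ k := fun e => hj (e ▸ hjl)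
      rw [hcoef _ l j hjl]
      rcases hl.lt_or_eq with hl' | hl'
      · rw [hedge l hl1 hl' _ hUs, if_neg hUC,
          if_neg (fun e => hlk (hUinj l k hl1 hl' hk1 hk e.symm)), Int.cast_zero, zero_mul]
      · rw [hl', hlast _ hUs, if_neg hUC, if_neg hUY, if_neg hUZ, Int.cast_zero, zero_mul]
  have hwY : w H Y = b := by rw [hlast Y hY, if_neg hCY.symm, if_pos rfl]
  have hwZ : w H Z = c := by rw [hlast Z hZ, if_neg hCZ.symm, if_neg hYZ.symm, if_pos rfl]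
  have hYU : ∀ k, 1 ≤ k → k < H → Y ≠ U k := fun k hk1 hk => (hU k hk1 hk).2.2.1.symm
  have hZU : ∀ k, 1 ≤ k → k < H → Z ≠ U k := fun k hk1 hk => (hU k hk1 hk).2.2.2.symm
  -- no further members
  have hall : ∀ χ ∈ s, χ = C ∨ χ = Y ∨ χ = Z ∨ ∃ k, 1 ≤ k ∧ k < H ∧ χ = U k := by
    intro χ hχ
    by_contra hcon
    push Not at hcon
    obtain ⟨hχC, hχY, hχZ, hχU⟩ := hcon
    have hrot0 : ∀ μ : ZMod (2 ^ n), μ ≠ 0 → rotVal x χ μ = 0 := fun μ hμ => by
      rw [hvalY χ hχ hχC hχU μ hμ, hlast χ hχ, if_neg hχC, if_neg hχY, if_neg hχZ, Int.cast_zero,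
        zero_mul]
    refine false_of_vanishing hM (Finset.mem_erase.1 hχ).2 (Finset.mem_erase.1 hχ).1 fun t ht => ?_
    haveI : Fact (Nat.Prime 2) := ⟨Nat.prime_two⟩
    obtain ⟨W, hW⟩ := (IsPGroup.of_card (p := 2) (n := 1) (G := Subgroup.zpowers t)
      (by rw [Nat.card_zpowers, ht, pow_one])).exists_le_sylow
    obtain ⟨g, hg⟩ := MulAction.exists_smul_eq G W S
    have hgt : g * t * g⁻¹ ∈ (S : Subgroup G) := by
      rw [← hg]; exact ⟨t, hW (Subgroup.mem_zpowers t), rfl⟩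
    have hto : orderOf (g * t * g⁻¹) = 2 :=
      (orderOf_injective (MulAut.conj g).toMonoidHom (MulAut.conj g).injective t).trans ht
    rw [Chars.eq_of_isConj (Chars.isClassFunction_coe χ) (isConj_iff.2 ⟨g, rfl⟩)]
    have hz : (χ : G → ℂ) (x ^ ((2 : ℤ) ^ (n - 1))) = 0 := by
      rw [← rot_half h]; exact hrot0 _ (half_ne_zero h)
    rcases h.mem_involution hgt hto with e | ⟨i, e⟩
    · rw [e, hz]
    by_cases hconj : IsConj (x ^ ((2 : ℤ) ^ (n - 1))) (x ^ i * y)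
    · rw [e, ← Chars.eq_of_isConj (Chars.isClassFunction_coe χ) hconj, hz]
    obtain ⟨hnpc, hfac⟩ := refl_centralizer h hconj
    rw [e]
    set t₀ := x ^ i * y with ht₀
    have h4 := (Cfsg.Agent.S0947.result 2 M hM t₀ ⟨1, by rw [h.orderOf_refl i, pow_one]⟩
      (fun e1 => by have := h.orderOf_refl i; rw [← ht₀, e1, orderOf_one] at this; omega) 1
      (by rw [orderOf_one]; norm_num)).2 ⟨_, index_pPrimeCore hnpc⟩
    rw [hfac, finsum_block_eq_sum] at h4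
    simp only [OneMemClass.coe_one, mul_one] at h4
    choose v hv hvpar using fun φ : IrrCharacter G =>
      Cfsg.Agent.S0944.result φ t₀ (h.orderOf_refl i)
    simp only [hv] at h4
    have h4' : ∑ φ ∈ B0 M, v φ ^ 2 = 4 := by
      have : ((∑ φ ∈ B0 M, v φ ^ 2 : ℤ) : ℝ) = ((4 : ℤ) : ℝ) := by
        push_cast
        rw [show ((4 : ℝ)) = ((2 ^ 2 : ℕ) : ℝ) by norm_num, ← h4]
        refine Finset.sum_congr rfl fun φ _ => ?_
        rw [Complex.norm_intCast, sq_abs]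
      exact_mod_cast this
    have hodd : ∀ (V : IrrCharacter G) (ε : ℤ), (ε = 1 ∨ ε = -1) →
        rotVal x V (half n) = ε → 1 ≤ v V ^ 2 := by
      intro V ε hε hVε
      obtain ⟨m, hm, hmp⟩ := Cfsg.Agent.S0944.result V (rot x (half n))
        (by rw [rot_half h]; exact h.orderOf_z)
      have : m = ε := by
        have e1 : (m : ℂ) = (ε : ℂ) := hm.symm.trans hVε
        exact_mod_cast e1
      subst this
      have hp := hvpar V
      have : v V ≠ 0 := fun h0 => by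
        rw [h0] at hp
        rcases hε with e1 | e1 <;> omega
      nlinarith [mul_self_pos.2 this]
    have hψh : ψ (half n * half n) = 1 := by
      rw [show half n * half n = (2 ^ (n - 1)) • half n by rw [nsmul_eq_mul]; rfl,
        AddChar.map_nsmul_eq_pow, apply_half hψ h, Even.neg_one_pow]
      exact ⟨2 ^ (n - 2), by rw [← two_mul, ← pow_succ']; congr 1; omega⟩
    have h1v : v (Chars.oneChar G) = 1 := by
      have e1 := hv (Chars.oneChar G)
      rw [Chars.oneChar_apply] at e1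
      exact_mod_cast e1.symm
    have hsub : ({Chars.oneChar G, C, Y, Z, χ} : Finset (IrrCharacter G)) ⊆ B0 M := by
      intro φ hφ
      simp only [Finset.mem_insert, Finset.mem_singleton] at hφ
      rcases hφ with rfl | rfl | rfl | rfl | rfl
      exacts [oneChar_mem_B0 hM, (Finset.mem_erase.1 hC).2, (Finset.mem_erase.1 hY).2,
        (Finset.mem_erase.1 hZ).2, (Finset.mem_erase.1 hχ).2]
    have hle := Finset.sum_le_sum_of_subset_of_nonneg hsub (f := fun φ => v φ ^ 2)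
      (fun φ _ _ => sq_nonneg _)
    rw [h4', Finset.sum_insert (by
        simp [(hs' C hC).1.symm, (hs' Y hY).1.symm, (hs' Z hZ).1.symm, (hs' χ hχ).1.symm]),
      Finset.sum_insert (by simp [hCY, hCZ, Ne.symm hχC]),
      Finset.sum_insert (by simp [hYZ, Ne.symm hχY]),
      Finset.sum_insert (by simp [Ne.symm hχZ]), Finset.sum_singleton, h1v] at hle
    have b1 := hodd C (-a) (by omega) (by rw [hvalC _ (half_ne_zero h)]; push_cast; rfl)
    have b2 := hodd Y b hb (by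
      rw [hvalY Y hY hCY.symm hYU _ (half_ne_zero h), hwY, hψh, mul_one])
    have b3 := hodd Z c hc (by
      rw [hvalY Z hZ hCZ.symm hZU _ (half_ne_zero h), hwZ, hψh, mul_one])
    have b4 : v χ = 0 := by
      by_contra h0
      nlinarith [mul_self_pos.2 h0]
    rw [hv, b4, Int.cast_zero]
  refine ⟨C, Y, Z, U, a, b, c, ha, hb, hc, (hs' C hC).1, (hs' Y hY).1, (hs' Z hZ).1, hCY, hCZ, hYZ,
    fun k hk1 hk => ⟨(hs' _ (hU k hk1 hk).1).1, (hU k hk1 hk).2⟩, hUinj, fun χ => ⟨fun hχ => ?_, ?_⟩,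
    fun μ hμ => ⟨hvalC μ hμ, ?_, ?_, fun k hk1 hk => hvalU k hk1 hk μ hμ⟩, fun r hr => ⟨?_, ?_⟩⟩
  · by_cases h1 : χ = Chars.oneChar G
    · exact Or.inl h1
    · exact Or.inr (hall χ (Finset.mem_erase.2 ⟨h1, mem_B0.2 hχ⟩))
  · rintro (rfl | rfl | rfl | rfl | ⟨k, hk1, hk, rfl⟩)
    exacts [mem_B0.1 (oneChar_mem_B0 hM), (hs' _ hC).2, (hs' _ hY).2, (hs' _ hZ).2,
      (hs' _ (hU k hk1 hk).1).2]
  · rw [hvalY Y hY hCY.symm hYU μ hμ, hwY]
  · rw [hvalY Z hZ hCZ.symm hZU μ hμ, hwZ]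
  · have h0 := hreg H (by omega) le_rfl r hr
    rw [← Finset.sum_subset (s₁ := {C, Y, Z})] at h0
    · rwa [Finset.sum_insert (by simp [hCY, hCZ]), Finset.sum_pair hYZ, hwY, hwZ, hlast C hC,
        if_pos rfl, ← add_assoc] at h0
    · intro φ hφ
      simp only [Finset.mem_insert, Finset.mem_singleton] at hφ
      rcases hφ with rfl | rfl | rfl
      exacts [hC, hY, hZ]
    · intro φ hφ hφ'
      simp only [Finset.mem_insert, Finset.mem_singleton, not_or] at hφ'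
      rw [hlast φ hφ, if_neg hφ'.1, if_neg hφ'.2.1, if_neg hφ'.2.2, Int.cast_zero, zero_mul]
  · intro k hk1 hk
    obtain ⟨hUs, hUC, -, -⟩ := hU k hk1 hk
    have h0 := hreg k hk1 hk.le r hr
    rw [← Finset.sum_subset (s₁ := {C, U k})] at h0
    · rw [Finset.sum_pair hUC.symm, hedge k hk1 hk C hC, if_pos rfl, hedge k hk1 hk _ hUs,
        if_neg hUC, if_pos rfl, Int.cast_neg, neg_mul, ← sub_eq_add_neg] at h0
      exact h0
    · intro φ hφ
      simp only [Finset.mem_insert, Finset.mem_singleton] at hφ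
      rcases hφ with rfl | rfl
      exacts [hC, hUs]
    · intro φ hφ hφ'
      simp only [Finset.mem_insert, Finset.mem_singleton, not_or] at hφ'
      rw [hedge k hk1 hk φ hφ, if_neg hφ'.1, if_neg hφ'.2, Int.cast_zero, zero_mul]

end CfsgLib.DihedralBlock
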