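import Cfsg.Agent.DihedralBlock.Local
import Cfsg.Agent.Chars.Basic.Columns

/-!
# Pairs of involutions with product of even order, Sylow 2-subgroup dihedral and one class
-/

set_option autoImplicit false
set_option linter.style.haveILetI false

namespace CfsgLib.DihedralBlock

open CfsgLib.FusionTwo

universe u

variable {G : Type u} [Group G] [Finite G]

/-- The involutions other than `t` commuting with `t`. -/
def nbrs (t : G) : Set G := {v | orderOf v = 2 ∧ Commute t v ∧ v ≠ t}

theorem mul_self_of_orderOf_two {H : Type u} [Group H] {a : H} (h : orderOf a = 2) : a * a = 1 := by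
  rw [← pow_two, ← h, pow_orderOf_eq_one]

theorem inv_of_orderOf_two {H : Type u} [Group H] {a : H} (h : orderOf a = 2) : a⁻¹ = a :=
  inv_eq_of_mul_eq_one_left (mul_self_of_orderOf_two h)

theorem conj_pow_of_involutions {J v : G} (hJ : orderOf J = 2) (hv : orderOf v = 2) (k : ℕ) :
    J * (J * v) ^ k * J⁻¹ = ((J * v) ^ k)⁻¹ := by
  rw [← conj_pow, ← inv_pow]
  congr 1
  rw [mul_inv_rev, inv_of_orderOf_two hv, inv_of_orderOf_two hJ, ← mul_assoc,
    mul_self_of_orderOf_two hJ, one_mul]

/-- The central involution of the dihedral group generated by `J` and `v`. -/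
theorem exists_central {J v : G} (hJ : orderOf J = 2) (hv : orderOf v = 2)
    (he : 2 ∣ orderOf (J * v)) :
    ∃ t, t ∈ nbrs J ∧ v ∈ nbrs t ∧ t = (J * v) ^ (orderOf (J * v) / 2) := by
  set q := J * v with hq
  set t := q ^ (orderOf q / 2) with ht
  have hto : orderOf t = 2 := by
    rw [ht, orderOf_pow, Nat.gcd_eq_right (Nat.div_dvd_of_dvd he),
      Nat.div_div_self he (orderOf_pos q).ne']
  have hJt : Commute J t := by
    show J * t = t * J
    rw [← mul_inv_eq_iff_eq_mul, ht, hq, conj_pow_of_involutions hJ hv, ← hq, ← ht,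
      inv_of_orderOf_two hto]
  have hqt : Commute q t := Commute.self_pow q _
  have htv : Commute t v := by
    have e : v = J⁻¹ * q := by rw [hq, inv_mul_cancel_left]
    rw [e]
    exact hJt.symm.inv_right.mul_right hqt.symm
  have hno : ∀ {a b : G}, orderOf a = 2 → orderOf b = 2 → Commute a b →
      (a * b) ^ (orderOf (a * b) / 2) ≠ a := by
    intro a b ha hb hab e
    have h2 : orderOf (a * b) ∣ 2 := orderOf_dvd_of_pow_eq_one (by
      rw [hab.mul_pow, pow_two, pow_two, mul_self_of_orderOf_two ha, mul_self_of_orderOf_two hb,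
        one_mul])
    have h3 : orderOf (a * b) / 2 ≤ 1 := by
      have := Nat.le_of_dvd two_pos h2
      omega
    interval_cases h4 : orderOf (a * b) / 2
    · rw [pow_zero] at e
      rw [← e, orderOf_one] at ha
      omega
    · rw [pow_one, mul_eq_left] at e
      rw [e, orderOf_one] at hb
      omega
  refine ⟨t, ⟨hto, hJt, fun e => ?_⟩, ⟨hv, htv, fun e => ?_⟩, rfl⟩
  · exact hno hJ hv (e ▸ htv) (by rw [← hq, ← ht, e])
  · have hJv : Commute J v := e ▸ hJt
    refine hno hv hJ hJv.symm ?_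
    rw [← hJv.eq, ← hq, ← ht, ← e]

variable {S : Sylow 2 G} {n : ℕ} {x y : G}

/-- Three pairwise commuting involutions of `G` lie in a four-group. -/
theorem eq_of_commuting (h : IsDihGen (S : Subgroup G) n x y) {a b c : G} (ha : orderOf a = 2)
    (hb : orderOf b = 2) (hc : orderOf c = 2) (hab : Commute a b) (hac : Commute a c)
    (hbc : Commute b c) (hne : a ≠ b) : c = a ∨ c = b ∨ c = a * b := by
  classical
  haveI : Fact (Nat.Prime 2) := ⟨Nat.prime_two⟩
  set R := Subgroup.closure ({a, b, c} : Set G) with hR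
  haveI : IsMulCommutative R := Subgroup.isMulCommutative_closure (by
    intro p hp q hq
    simp only [Set.mem_insert_iff, Set.mem_singleton_iff] at hp hq
    rcases hp with rfl | rfl | rfl <;> rcases hq with rfl | rfl | rfl
    exacts [rfl, hab.eq, hac.eq, hab.eq.symm, rfl, hbc.eq, hac.eq.symm, hbc.eq.symm, rfl])
  have hsq : ∀ r ∈ R, r * r = 1 := by
    intro r hr
    induction hr using Subgroup.closure_induction with
    | mem p hp =>
      simp only [Set.mem_insert_iff, Set.mem_singleton_iff] at hp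
      rcases hp with rfl | rfl | rfl
      exacts [mul_self_of_orderOf_two ha, mul_self_of_orderOf_two hb, mul_self_of_orderOf_two hc]
    | one => rw [one_mul]
    | mul p q hp hq ihp ihq =>
      have hpq : p * q = q * p := congrArg Subtype.val
        (IsMulCommutative.is_comm.comm (⟨p, hp⟩ : R) ⟨q, hq⟩)
      calc p * q * (p * q) = p * (q * p) * q := by group
        _ = p * p * (q * q) := by rw [← hpq]; group
        _ = 1 := by rw [ihp, ihq, one_mul]
    | inv p hp ihp => rw [← mul_inv_rev, ihp, inv_one]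
  have hR2 : IsPGroup 2 R := fun r => ⟨1, Subtype.ext (by
    rw [pow_one, SubgroupClass.coe_pow, pow_two]; exact hsq _ r.2)⟩
  obtain ⟨W, hW⟩ := hR2.exists_le_sylow
  obtain ⟨g, hg⟩ := MulAction.exists_smul_eq G W S
  have hmem : ∀ r ∈ R, MulAut.conj g r ∈ (S : Subgroup G) := fun r hr => by
    rw [← hg]; exact ⟨r, hW hr, rfl⟩
  have hord : ∀ r : G, orderOf (MulAut.conj g r) = orderOf r := fun r =>
    orderOf_injective (MulAut.conj g).toMonoidHom (MulAut.conj g).injective r
  have hcR : ∀ {p}, p = a ∨ p = b ∨ p = c → p ∈ R := fun hp => Subgroup.subset_closure (by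
    simp only [Set.mem_insert_iff, Set.mem_singleton_iff]; exact hp)
  -- one of `a`, `b` is sent to a reflection
  suffices key : ∀ p q : G, p ∈ R → q ∈ R → orderOf p = 2 → orderOf q = 2 → p ≠ q →
      (∃ i : ℤ, MulAut.conj g p = x ^ i * y) → c = p ∨ c = q ∨ c = p * q by
    rcases h.mem_involution (hmem a (hcR (Or.inl rfl))) ((hord a).trans ha) with e | e
    · rcases h.mem_involution (hmem b (hcR (Or.inr (Or.inl rfl)))) ((hord b).trans hb) with e' | e'
      · exact absurd ((MulAut.conj g).injective (e.trans e'.symm)) hne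
      · rcases key b a (hcR (Or.inr (Or.inl rfl))) (hcR (Or.inl rfl)) hb ha hne.symm e' with
          r | r | r
        exacts [Or.inr (Or.inl r), Or.inl r, Or.inr (Or.inr (r.trans hab.symm.eq))]
    · exact key a b (hcR (Or.inl rfl)) (hcR (Or.inr (Or.inl rfl))) ha hb hne e
  rintro p q hp hq hpo hqo hpq ⟨i, hi⟩
  have hcases : ∀ r ∈ R, MulAut.conj g r = 1 ∨ MulAut.conj g r = x ^ ((2 : ℤ) ^ (n - 1)) ∨
      MulAut.conj g r = MulAut.conj g p ∨
      MulAut.conj g r = x ^ ((2 : ℤ) ^ (n - 1)) * MulAut.conj g p := by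
    intro r hr
    rw [hi]
    refine h.comm_refl (hmem r hr) ?_
    rw [← hi, ← map_mul, ← map_mul]
    exact congrArg _ (congrArg Subtype.val (IsMulCommutative.is_comm.comm (⟨r, hr⟩ : R) ⟨p, hp⟩))
  have h1 : ∀ r : G, orderOf r = 2 → MulAut.conj g r ≠ 1 := fun r hr e => by
    rw [← hord r, e, orderOf_one] at hr
    omega
  have hz1 : x ^ ((2 : ℤ) ^ (n - 1)) * x ^ ((2 : ℤ) ^ (n - 1)) = 1 :=
    mul_self_of_orderOf_two h.orderOf_z
  rcases hcases c (hcR (Or.inr (Or.inr rfl))) with e | e | e | e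
  · exact absurd e (h1 c hc)
  · rcases hcases q hq with e' | e' | e' | e'
    · exact absurd e' (h1 q hqo)
    · exact Or.inr (Or.inl ((MulAut.conj g).injective (e.trans e'.symm)))
    · exact absurd ((MulAut.conj g).injective e').symm hpq
    · right; right
      apply (MulAut.conj g).injective
      have hcomm : MulAut.conj g p * MulAut.conj g q = MulAut.conj g q * MulAut.conj g p := by
        rw [← map_mul, ← map_mul]
        exact congrArg _ (congrArg Subtype.val (IsMulCommutative.is_comm.comm (⟨p, hp⟩ : R) ⟨q, hq⟩))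
      rw [map_mul, hcomm, e', e, mul_assoc, ← map_mul,
        mul_self_of_orderOf_two hpo, map_one, mul_one]
  · exact Or.inl ((MulAut.conj g).injective e)
  · rcases hcases q hq with e' | e' | e' | e'
    · exact absurd e' (h1 q hqo)
    · right; right
      apply (MulAut.conj g).injective
      rw [map_mul, e, e']
      exact h.z_comm (hmem p hp)
    · exact absurd ((MulAut.conj g).injective e').symm hpq
    · exact Or.inr (Or.inl ((MulAut.conj g).injective (e.trans e'.symm)))

/-- The central involution is determined by `J` and `v`. -/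
theorem central_unique (h : IsDihGen (S : Subgroup G) n x y) {J v t t' : G}
    (hJ : orderOf J = 2) (ht : t ∈ nbrs J) (hv : v ∈ nbrs t) (ht' : t' ∈ nbrs J) (hv' : v ∈ nbrs t')
    (htt : Commute t t') (he : 2 ∣ orderOf (J * v)) : t = t' := by
  by_contra hne
  have hJ' := eq_of_commuting h ht.1 ht'.1 hJ htt ht.2.1.symm ht'.2.1.symm hne
  have hv'' := eq_of_commuting h ht.1 ht'.1 hv.1 htt hv.2.1 hv'.2.1 hne
  rcases hJ' with e | e | e
  · exact ht.2.2 e.symm
  · exact ht'.2.2 e.symm
  rcases hv'' with e' | e' | e'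
  · exact hv.2.2 e'
  · exact hv'.2.2 e'
  rw [e', ← e, mul_self_of_orderOf_two hJ, orderOf_one] at he
  exact absurd (Nat.le_of_dvd one_pos he) (by omega)

theorem commute_pow_of_mem {J v t : G} (ht : t ∈ nbrs J) (hv : v ∈ nbrs t) (k : ℕ) :
    Commute t ((J * v) ^ k) := (ht.2.1.symm.mul_right hv.2.1).pow_right k

/-- `J v` has order twice an odd number with square root of unity `t`. -/
theorem orderOf_of_twisted {J v t : G} (ht : t ∈ nbrs J) (hv : v ∈ nbrs t)
    (ho : ¬ 2 ∣ orderOf (J * (t * v))) : 2 ∣ orderOf (J * v) ∧ ¬ 4 ∣ orderOf (J * v) := by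
  have hc : Commute t (J * (t * v)) := ht.2.1.symm.mul_right ((Commute.refl t).mul_right hv.2.1)
  have e : J * v = t * (J * (t * v)) := by
    rw [← mul_assoc, ← ht.2.1.eq, mul_assoc, ← mul_assoc t t v, mul_self_of_orderOf_two ht.1,
      one_mul]
  rw [e, hc.orderOf_mul_eq_mul_orderOf_of_coprime
    (by rw [ht.1]; exact Nat.prime_two.coprime_iff_not_dvd.2 ho), ht.1]
  exact ⟨dvd_mul_right 2 _, fun h4 => ho (by
    rw [show (4 : ℕ) = 2 * 2 from rfl] at h4
    exact Nat.dvd_of_mul_dvd_mul_left two_pos h4)⟩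

theorem twisted_of_orderOf {J v : G} (hJ : orderOf J = 2) (hv : orderOf v = 2)
    (he : 2 ∣ orderOf (J * v)) (h4 : ¬ 4 ∣ orderOf (J * v)) :
    ∃ t, t ∈ nbrs J ∧ v ∈ nbrs t ∧ ¬ 2 ∣ orderOf (J * (t * v)) := by
  obtain ⟨t, ht, hvt, htq⟩ := exists_central hJ hv he
  refine ⟨t, ht, hvt, ?_⟩
  obtain ⟨l, hl⟩ := he
  have hlodd : ¬ 2 ∣ l := fun ⟨j, hj⟩ => h4 ⟨j, by rw [hl, hj]; ring⟩
  have e : J * (t * v) = (J * v) ^ (l + 1) := by
    rw [← mul_assoc, ht.2.1.eq, mul_assoc, pow_succ, htq, hl, Nat.mul_div_cancel_left l two_pos]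
  have h2 : (J * v) ^ (l + 1) ^ 1 = (J * v) ^ (l + 1) := by rw [pow_one]
  obtain ⟨j, hj⟩ : 2 ∣ l + 1 := by omega
  rw [e]
  intro hdvd
  refine hlodd (hdvd.trans (orderOf_dvd_of_pow_eq_one ?_))
  rw [← pow_mul, ← orderOf_dvd_iff_pow_eq_one, hl, hj]
  exact ⟨j, by ring⟩

/-- The count of partners. -/
theorem card_partners (h : IsDihGen (S : Subgroup G) n x y) {J : G} (hJ : orderOf J = 2) (N : ℕ)
    (hN : ∀ t : G, orderOf t = 2 → Nat.card (nbrs t) = N) :
    Nat.card {v : G // orderOf v = 2 ∧ 2 ∣ orderOf (J * v)} +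
      Nat.card {v : G // orderOf v = 2 ∧ 2 ∣ orderOf (J * v) ∧ ¬ 4 ∣ orderOf (J * v)} = N * N := by
  classical
  haveI := Fintype.ofFinite G
  let R : Finset G := Finset.univ.filter (· ∈ nbrs J)
  let P : G → G → Prop := fun t v => v ∈ nbrs t ∧ 2 ∣ orderOf (J * v)
  let Q : G → G → Prop := fun t v => v ∈ nbrs t ∧ ¬ 2 ∣ orderOf (J * (t * v))
  have huniq : ∀ t ∈ nbrs J, ∀ t' ∈ nbrs J, ∀ v, v ∈ nbrs t → v ∈ nbrs t' →
      2 ∣ orderOf (J * v) → t = t' := by
    intro t ht t' ht' v hv hv' he
    obtain ⟨s, hs, hvs, hsq⟩ := exists_central hJ hv.1 he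
    have e1 := central_unique h hJ ht hv hs hvs (hsq ▸ commute_pow_of_mem ht hv _) he
    have e2 := central_unique h hJ ht' hv' hs hvs (hsq ▸ commute_pow_of_mem ht' hv' _) he
    exact e1.trans e2.symm
  have hV : (Finset.univ.filter fun v => orderOf v = 2 ∧ 2 ∣ orderOf (J * v)) =
      R.biUnion fun t => Finset.univ.filter (P t) := by
    ext v
    simp only [R, P, Finset.mem_filter, Finset.mem_univ, true_and, Finset.mem_biUnion]
    constructor
    · rintro ⟨hv, he⟩
      obtain ⟨t, ht, hvt, -⟩ := exists_central hJ hv he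
      exact ⟨t, ht, hvt, he⟩
    · rintro ⟨t, -, hvt, he⟩
      exact ⟨hvt.1, he⟩
  have hV1 : (Finset.univ.filter fun v =>
      orderOf v = 2 ∧ 2 ∣ orderOf (J * v) ∧ ¬ 4 ∣ orderOf (J * v)) =
      R.biUnion fun t => Finset.univ.filter (Q t) := by
    ext v
    simp only [R, Q, Finset.mem_filter, Finset.mem_univ, true_and, Finset.mem_biUnion]
    constructor
    · rintro ⟨hv, he, h4⟩
      exact twisted_of_orderOf hJ hv he h4
    · rintro ⟨t, ht, hvt, ho⟩
      exact ⟨hvt.1, orderOf_of_twisted ht hvt ho⟩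
  have hd : (R : Set G).PairwiseDisjoint fun t => Finset.univ.filter (P t) := by
    intro t ht t' ht' hne
    simp only [Function.onFun]
    rw [Finset.disjoint_left]
    intro v hv hv'
    simp only [R, P, Finset.coe_filter, Finset.mem_filter, Finset.mem_univ, true_and,
      Set.mem_ofPred_eq] at hv hv' ht ht'
    exact hne (huniq t ht t' ht' v hv.1 hv'.1 hv.2)
  have hd1 : (R : Set G).PairwiseDisjoint fun t => Finset.univ.filter (Q t) := by
    intro t ht t' ht' hne
    simp only [Function.onFun]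
    rw [Finset.disjoint_left]
    intro v hv hv'
    simp only [R, Q, Finset.coe_filter, Finset.mem_filter, Finset.mem_univ, true_and,
      Set.mem_ofPred_eq] at hv hv' ht ht'
    exact hne (huniq t ht t' ht' v hv.1 hv'.1 (orderOf_of_twisted ht hv.1 hv.2).1)
  -- multiplication by `t` exchanges the two kinds
  have hsplit : ∀ t ∈ R, (Finset.univ.filter (P t)).card + (Finset.univ.filter (Q t)).card = N := by
    intro t ht
    simp only [R, Finset.mem_filter, Finset.mem_univ, true_and] at ht
    have htt := mul_self_of_orderOf_two ht.1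
    have hclosed : ∀ v ∈ nbrs t, t * v ∈ nbrs t := by
      intro v hv
      refine ⟨orderOf_eq_prime ?_ ?_, (Commute.refl t).mul_right hv.2.1, fun e => ?_⟩
      · rw [hv.2.1.mul_pow, pow_two, pow_two, htt, mul_self_of_orderOf_two hv.1, one_mul]
      · intro e
        exact hv.2.2 (mul_left_cancel (e.trans htt.symm))
      · have h1 := hv.1
        rw [mul_eq_left.1 e, orderOf_one] at h1
        omega
    have e : (Finset.univ.filter (Q t)).card =
        (Finset.univ.filter fun v => v ∈ nbrs t ∧ ¬ 2 ∣ orderOf (J * v)).card := by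
      refine Finset.card_bij' (fun v _ => t * v) (fun v _ => t * v) ?_ ?_
        (fun v _ => by rw [← mul_assoc, htt, one_mul]) (fun v _ => by rw [← mul_assoc, htt, one_mul])
      · intro v hv
        simp only [Q, Finset.mem_filter, Finset.mem_univ, true_and] at hv ⊢
        exact ⟨hclosed v hv.1, hv.2⟩
      · intro v hv
        simp only [Q, Finset.mem_filter, Finset.mem_univ, true_and] at hv ⊢
        exact ⟨hclosed v hv.1, by rw [← mul_assoc t, htt, one_mul]; exact hv.2⟩
    rw [e, ← hN t ht.1, Nat.card_eq_fintype_card (α := nbrs t),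
      Fintype.card_subtype, ← Finset.card_union_of_disjoint]
    · congr 1
      ext v
      simp only [P, Finset.mem_union, Finset.mem_filter, Finset.mem_univ, true_and]
      exact ⟨fun hv => hv.elim (·.1) (·.1), fun hv =>
        (em (2 ∣ orderOf (J * v))).elim (fun he => Or.inl ⟨hv, he⟩) (fun he => Or.inr ⟨hv, he⟩)⟩
    · rw [Finset.disjoint_left]
      intro v hv hv'
      simp only [P, Finset.mem_filter, Finset.mem_univ, true_and] at hv hv'
      exact hv'.2 hv.2
  have hR : R.card = N := by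
    rw [← hN J hJ, Nat.card_eq_fintype_card (α := nbrs J), Fintype.card_subtype]
  rw [Nat.card_eq_fintype_card, Nat.card_eq_fintype_card, Fintype.card_subtype, Fintype.card_subtype,
    hV, hV1, Finset.card_biUnion hd, Finset.card_biUnion hd1, ← Finset.sum_add_distrib,
    Finset.sum_congr rfl hsplit, Finset.sum_const, hR, smul_eq_mul]

/-- The centraliser of an involution has two classes of other involutions. -/
theorem card_nbrs_z (h : IsDihGen (S : Subgroup G) n x y) :
    (Nat.card (nbrs (x ^ ((2 : ℤ) ^ (n - 1)))) : ℚ) =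
      (Nat.card (Subgroup.centralizer ({x ^ ((2 : ℤ) ^ (n - 1))} : Set G)) : ℚ) *
        (1 / (Nat.card (Subgroup.centralizer ({x ^ ((2 : ℤ) ^ (n - 1)), y} : Set G)) : ℚ) +
          1 / (Nat.card (Subgroup.centralizer ({x ^ ((2 : ℤ) ^ (n - 1)), x * y} : Set G)) : ℚ)) := by
  classical
  haveI : Fact (Nat.Prime 2) := ⟨Nat.prime_two⟩
  haveI := Fintype.ofFinite G
  set z := x ^ ((2 : ℤ) ^ (n - 1)) with hz
  set C := Subgroup.centralizer ({z} : Set G) with hC
  have hrefC : ∀ i : ℤ, x ^ i * y ∈ C := fun i => le_centralizer_z h (h.refl_mem i)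
  let cls : ℤ → Finset G := fun i => Finset.univ.filter
    fun v => ∃ c ∈ C, c * (x ^ i * y) * c⁻¹ = v
  have hcard : ∀ i : ℤ, (cls i).card *
      Nat.card (Subgroup.centralizer ({z, x ^ i * y} : Set G)) = Nat.card C := by
    intro i
    set a : C := ⟨x ^ i * y, hrefC i⟩ with ha
    have h1 : (cls i).card = (Finset.univ.filter fun v : C => IsConj a v).card := by
      refine (Finset.card_bij (s := Finset.univ.filter fun v : C => IsConj a v) (t := cls i)
        (fun v _ => (v : G)) ?_ ?inj ?_).symm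
      case inj => exact fun a _ b _ e => Subtype.ext e
      · intro v hv
        obtain ⟨c, hc⟩ := isConj_iff.1 (Finset.mem_filter.1 hv).2
        exact Finset.mem_filter.2 ⟨Finset.mem_univ _, c, c.2, congrArg Subtype.val hc⟩
      · intro v hv
        obtain ⟨c, hc, rfl⟩ := (Finset.mem_filter.1 hv).2
        exact ⟨⟨c * (x ^ i * y) * c⁻¹, C.mul_mem (C.mul_mem hc (hrefC i)) (C.inv_mem hc)⟩,
          Finset.mem_filter.2 ⟨Finset.mem_univ _, isConj_iff.2 ⟨⟨c, hc⟩, rfl⟩⟩, rfl⟩
    have h2 : Nat.card (Subgroup.centralizer ({z, x ^ i * y} : Set G)) =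
        Nat.card (Subgroup.centralizer ({a} : Set C)) := by
      refine Nat.card_congr ?_
      refine
        { toFun := fun g => ⟨⟨(g : G), ?_⟩, ?_⟩
          invFun := fun g => ⟨((g : C) : G), ?_⟩
          left_inv := fun g => rfl
          right_inv := fun g => rfl }
      · rw [hC, Subgroup.mem_centralizer_singleton_iff]
        exact (Subgroup.mem_centralizer_iff.1 g.2 z (Set.mem_insert _ _)).symm
      · rw [Subgroup.mem_centralizer_singleton_iff]
        exact Subtype.ext (Subgroup.mem_centralizer_iff.1 g.2 _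
          (Set.mem_insert_of_mem _ rfl)).symm
      · rw [Subgroup.mem_centralizer_iff]
        intro k hk
        rcases hk with rfl | hk
        · exact (Subgroup.mem_centralizer_singleton_iff.1 (g : C).2).symm
        · rw [Set.mem_singleton_iff] at hk
          subst hk
          exact congrArg Subtype.val (Subgroup.mem_centralizer_singleton_iff.1 g.2).symm
    have h3 := Chars.card_carrier_mul_card_centralizer a
    rw [h1, h2, ← h3]
    congr 1
    rw [Nat.card_eq_fintype_card, Fintype.card_subtype]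
    congr 1
    ext v
    simp only [Finset.mem_filter, Finset.mem_univ, true_and]
    rw [ConjClasses.mem_carrier_iff_mk_eq, ConjClasses.mk_eq_mk_iff_isConj]
    exact isConj_comm
  have hset : (Finset.univ.filter (· ∈ nbrs z)) = cls 0 ∪ cls 1 := by
    ext v
    simp only [cls, Finset.mem_filter, Finset.mem_univ, true_and, Finset.mem_union]
    constructor
    · rintro ⟨hv, hzv, hvz⟩
      have hvC : v ∈ C := Subgroup.mem_centralizer_singleton_iff.2 hzv.eq.symm
      have hp : IsPGroup 2 (Subgroup.zpowers (⟨v, hvC⟩ : C)) :=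
        IsPGroup.of_card (n := 1) (by rw [Nat.card_zpowers, Subgroup.orderOf_mk, hv, pow_one])
      obtain ⟨T, hT⟩ := hp.exists_le_sylow
      obtain ⟨m, hm⟩ := MulAction.exists_smul_eq C T (S.subtype (le_centralizer_z h))
      have hmem : m * ⟨v, hvC⟩ * m⁻¹ ∈ ((m • T : Sylow 2 C) : Subgroup C) :=
        ⟨⟨v, hvC⟩, hT (Subgroup.mem_zpowers _), rfl⟩
      rw [hm, Sylow.coe_subtype, Subgroup.mem_subgroupOf] at hmem
      have ho : orderOf ((m : G) * v * (m : G)⁻¹) = 2 :=
        (orderOf_injective (MulAut.conj (m : G)).toMonoidHom (MulAut.conj (m : G)).injective v).trans hv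
      rcases h.mem_involution hmem ho with e | ⟨k, e⟩
      · exfalso
        have hmz : Commute (m : G) z := Subgroup.mem_centralizer_singleton_iff.1 m.2
        refine hvz ?_
        have e' : (m : G) * v = (m : G) * z :=
          (mul_inv_eq_iff_eq_mul.1 e).trans hmz.eq.symm
        exact mul_left_cancel e'
      · change (m : G) * v * (m : G)⁻¹ = x ^ k * y at e
        rcases Int.even_or_odd' k with ⟨j, rfl | rfl⟩
        · refine Or.inl ⟨(m : G)⁻¹ * x ^ j, C.mul_mem (C.inv_mem m.2)
            (le_centralizer_z h ((S : Subgroup G).zpow_mem h.x_mem j)), ?_⟩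
          calc (m : G)⁻¹ * x ^ j * (x ^ (0 : ℤ) * y) * ((m : G)⁻¹ * x ^ j)⁻¹
              = (m : G)⁻¹ * (x ^ j * (x ^ (0 : ℤ) * y) * (x ^ j)⁻¹) * m := by group
            _ = v := by rw [h.conj_refl, zero_add, ← e]; group
        · refine Or.inr ⟨(m : G)⁻¹ * x ^ j, C.mul_mem (C.inv_mem m.2)
            (le_centralizer_z h ((S : Subgroup G).zpow_mem h.x_mem j)), ?_⟩
          calc (m : G)⁻¹ * x ^ j * (x ^ (1 : ℤ) * y) * ((m : G)⁻¹ * x ^ j)⁻¹
              = (m : G)⁻¹ * (x ^ j * (x ^ (1 : ℤ) * y) * (x ^ j)⁻¹) * m := by group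
            _ = v := by rw [h.conj_refl, add_comm, ← e]; group
    · have key : ∀ i : ℤ, (∃ c ∈ C, c * (x ^ i * y) * c⁻¹ = v) → v ∈ nbrs z := by
        rintro i ⟨c, hc, rfl⟩
        have hcz : Commute c z := Subgroup.mem_centralizer_singleton_iff.1 hc
        refine ⟨(orderOf_injective (MulAut.conj c).toMonoidHom (MulAut.conj c).injective _).trans
          (h.orderOf_refl i), (hcz.symm.mul_right (commute_z h (h.refl_mem i))).mul_right
          hcz.symm.inv_right, fun e => ?_⟩
        rw [mul_inv_eq_iff_eq_mul, ← hcz.eq] at e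
        exact h.zpow_mul_y_ne i _ (mul_left_cancel e)
      rintro (hv | hv)
      exacts [key 0 hv, key 1 hv]
  have hdisj : Disjoint (cls 0) (cls 1) := by
    rw [Finset.disjoint_left]
    intro v hv hv'
    simp only [cls, Finset.mem_filter, Finset.mem_univ, true_and] at hv hv'
    obtain ⟨c, hc, rfl⟩ := hv
    obtain ⟨d, hd, hdc⟩ := hv'
    obtain ⟨K, hK, hKT⟩ := Transfer.exists_isComplement' (npc_z h) (S.subtype (le_centralizer_z h))
    set e : C := ⟨d, hd⟩⁻¹ * ⟨c, hc⟩ with he
    obtain ⟨⟨k, s⟩, hks, -⟩ := hKT.existsUnique e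
    have hks' : (k : C) * (s : C) = e := hks
    set r0 : C := ⟨x ^ (0 : ℤ) * y, hrefC 0⟩
    set r1 : C := ⟨x ^ (1 : ℤ) * y, hrefC 1⟩
    have hconj : e * r0 * e⁻¹ = r1 := by
      apply Subtype.ext
      show d⁻¹ * c * (x ^ (0 : ℤ) * y) * (d⁻¹ * c)⁻¹ = x ^ (1 : ℤ) * y
      calc d⁻¹ * c * (x ^ (0 : ℤ) * y) * (d⁻¹ * c)⁻¹
          = d⁻¹ * (c * (x ^ (0 : ℤ) * y) * c⁻¹) * d := by group
        _ = _ := by rw [← hdc]; group
    have hS' : ∀ i : ℤ, ∀ hi : x ^ i * y ∈ C,
        (⟨x ^ i * y, hi⟩ : C) ∈ ((S.subtype (le_centralizer_z h) : Sylow 2 C) : Subgroup C) :=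
      fun i hi => by rw [Sylow.coe_subtype, Subgroup.mem_subgroupOf]; exact h.refl_mem i
    set w : C := (s : C) * r0 * (s : C)⁻¹ with hw
    have hwS : w ∈ ((S.subtype (le_centralizer_z h) : Sylow 2 C) : Subgroup C) :=
      Subgroup.mul_mem _ (Subgroup.mul_mem _ s.2 (hS' 0 _)) (Subgroup.inv_mem _ s.2)
    have h1 : (k : C) * w * (k : C)⁻¹ * w⁻¹ ∈ K := by
      rw [show (k : C) * w * (k : C)⁻¹ * w⁻¹ = (k : C) * (w * (k : C)⁻¹ * w⁻¹) by group]
      exact K.mul_mem k.2 (hK.conj_mem _ (K.inv_mem k.2) w)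
    have hrw : r1 * w⁻¹ = (k : C) * w * (k : C)⁻¹ * w⁻¹ := by
      rw [← hconj, ← hks', hw]; group
    have h2 : r1 * w⁻¹ = 1 := by
      have := hKT.disjoint
      rw [Subgroup.disjoint_def] at this
      exact this (hrw ▸ h1) (Subgroup.mul_mem _ (hS' 1 _) (Subgroup.inv_mem _ hwS))
    rw [mul_inv_eq_one] at h2
    have hsS : ((s : C) : G) ∈ (S : Subgroup G) := by
      refine Subgroup.mem_subgroupOf.1 (?_ : (s : C) ∈ (S : Subgroup G).subgroupOf C)
      rw [← Sylow.coe_subtype (h := le_centralizer_z h)]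
      exact s.2
    obtain ⟨j, hj2, hj⟩ := h.conj_refl_mem hsS 0
    have h3 : x ^ (1 : ℤ) * y = x ^ j * y := (congrArg Subtype.val h2).trans hj
    have := h.eq_of_refl_eq h3
    omega
  have hsplit : (Nat.card (nbrs z) : ℚ) = ((cls 0).card : ℚ) + (cls 1).card := by
    rw [Nat.card_eq_fintype_card (α := nbrs z), Fintype.card_subtype, hset,
      Finset.card_union_of_disjoint hdisj]
    push_cast
    rfl
  have e0 : ((cls 0).card : ℚ) =
      (Nat.card C : ℚ) / Nat.card (Subgroup.centralizer ({z, y} : Set G)) := by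
    rw [eq_div_iff (Nat.cast_ne_zero.2 Nat.card_pos.ne')]
    have := hcard 0
    rw [zpow_zero, one_mul] at this
    exact_mod_cast this
  have e1 : ((cls 1).card : ℚ) =
      (Nat.card C : ℚ) / Nat.card (Subgroup.centralizer ({z, x * y} : Set G)) := by
    rw [eq_div_iff (Nat.cast_ne_zero.2 Nat.card_pos.ne')]
    have := hcard 1
    rw [zpow_one] at this
    exact_mod_cast this
  rw [hsplit, e0, e1]
  ring

theorem card_nbrs_conj {t t' : G} (hc : IsConj t t') : Nat.card (nbrs t') = Nat.card (nbrs t) := by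
  obtain ⟨g, rfl⟩ := isConj_iff.1 hc
  refine (Nat.card_congr ((MulAut.conj g).toEquiv.subtypeEquiv fun v => ?_)).symm
  show v ∈ nbrs t ↔ g * v * g⁻¹ ∈ nbrs (g * t * g⁻¹)
  have ho : orderOf (g * v * g⁻¹) = orderOf v :=
    orderOf_injective (MulAut.conj g).toMonoidHom (MulAut.conj g).injective v
  exact and_congr (by rw [ho]) (and_congr (Commute.conj_iff g).symm
    (not_congr ⟨fun e => by rw [e], fun e => mul_left_cancel (mul_right_cancel e)⟩))

end CfsgLib.DihedralBlock
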