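import Cfsg.Agent.FusionTwo.Dihedral
import Cfsg.Agent.Transfer.Frobenius
import Cfsg.Agent.Transfer.QuaternionDerived
import Cfsg.Agent.Constrained.Basic

/-!
# Centralisers of 2-elements when a Sylow 2-subgroup is dihedral

* `card_rot_centralizer`, `npc_rot`: rotations of order at least four;
* `conj_rot`: their fusion;
* `frobenius_hyp_z`: the centraliser of the central involution satisfies Frobenius' criterion;
* `npc_refl`, `factorization_refl`: reflections not fused with the central involution.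
-/

set_option autoImplicit false
set_option linter.style.haveILetI false

namespace CfsgLib.DihedralBlock

open CfsgLib.FusionTwo

universe u

variable {G : Type u} [Group G]

/-- The odd core has index the 2-part of the order, for a group with a normal 2-complement. -/
theorem index_pPrimeCore {C : Type u} [Group C] [Finite C] (h : Cfsg.HasNormalPComplement 2 C) :
    (Cfsg.pPrimeCore 2 C).index = 2 ^ (Nat.card C).factorization 2 := by
  haveI : Fact (Nat.Prime 2) := ⟨Nat.prime_two⟩
  obtain ⟨T⟩ : Nonempty (Sylow 2 C) := inferInstance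
  obtain ⟨K, hK, hKT⟩ := Transfer.exists_isComplement' h T
  have hle : K ≤ Cfsg.pPrimeCore 2 C :=
    Constrained.le_pPrimeCore_of_not_dvd hK (hKT.index_eq_card ▸ T.not_dvd_index)
  have h1 : (Cfsg.pPrimeCore 2 C).index ∣ 2 ^ (Nat.card C).factorization 2 :=
    (Subgroup.index_dvd_of_le hle).trans
      (dvd_of_eq (hKT.symm.index_eq_card.trans T.card_eq_multiplicity))
  refine Nat.dvd_antisymm h1 ?_
  have h2 : 2 ^ (Nat.card C).factorization 2 ∣
      Nat.card (Cfsg.pPrimeCore 2 C) * (Cfsg.pPrimeCore 2 C).index := by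
    rw [Subgroup.card_mul_index]; exact Nat.ordProj_dvd _ _
  refine Nat.Coprime.dvd_of_dvd_mul_left ?_ h2
  exact (Nat.prime_two.coprime_iff_not_dvd.mpr Constrained.pPrimeCore_not_dvd).pow_left _

/-- Elements of odd order lie in the odd core. -/
theorem mem_pPrimeCore {C : Type u} [Group C] [Finite C] (h : Cfsg.HasNormalPComplement 2 C) {r : C}
    (hr : ¬ 2 ∣ orderOf r) : r ∈ Cfsg.pPrimeCore 2 C := by
  have h1 : r ^ 2 ^ (Nat.card C).factorization 2 ∈ Cfsg.pPrimeCore 2 C :=
    index_pPrimeCore h ▸ Subgroup.pow_index_mem _ r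
  obtain ⟨j, hj⟩ := exists_pow_eq_self_of_coprime (x := r)
    (n := 2 ^ (Nat.card C).factorization 2) ((Nat.prime_two.coprime_iff_not_dvd.2 hr).pow_left _)
  rw [← hj]
  exact pow_mem h1 j

/-- An element of odd order whose square fixes `a` under conjugation fixes it. -/
theorem commute_of_sq_of_odd {g a : G} (hg : (orderOf g).Coprime 2) (h : Commute (g ^ 2) a) :
    Commute g a := by
  obtain ⟨j, hj⟩ := exists_pow_eq_self_of_coprime (x := g) (n := 2) hg.symm
  rw [← hj]
  exact h.pow_left j

variable [Finite G] {S : Sylow 2 G} {n : ℕ} {x y : G}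

theorem rot_of_sq_ne_one (h : IsDihGen (S : Subgroup G) n x y) {g : G} (hg : g ∈ (S : Subgroup G))
    (h2 : g * g ≠ 1) : ∃ i : ℤ, g = x ^ i := by
  obtain ⟨i, rfl | rfl⟩ := h.mem_cases hg
  · exact ⟨i, rfl⟩
  · exact absurd (h.mul_self i) h2

theorem rot_of_commute (h : IsDihGen (S : Subgroup G) n x y) {g : G} (hg : g ∈ (S : Subgroup G))
    {i : ℤ} (hi : x ^ i * x ^ i ≠ 1) (hc : Commute g (x ^ i)) : g ∈ Subgroup.zpowers x := by
  obtain ⟨j, rfl | rfl⟩ := h.mem_cases hg
  · exact ⟨j, rfl⟩
  · exfalso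
    have h1 := hc.eq
    rw [mul_assoc, h.y_mul_zpow, ← mul_assoc, ← mul_assoc, ← zpow_add, ← zpow_add, mul_left_inj,
      h.zpow_eq_iff] at h1
    refine hi ?_
    rw [← zpow_add, h.zpow_eq_one_iff]
    rw [show j + -i - (i + j) = -(i + i) by ring, dvd_neg] at h1
    exact h1

/-- A 2-subgroup centralising a rotation of order at least four is cyclic and small. -/
theorem cyclic_of_le_centralizer_rot (h : IsDihGen (S : Subgroup G) n x y) {i : ℤ}
    (hi : x ^ i * x ^ i ≠ 1) {R : Subgroup G} (hR : IsPGroup 2 R)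
    (hxR : x ^ i ∈ R) (hRC : R ≤ Subgroup.centralizer ({x ^ i} : Set G)) :
    IsCyclic R ∧ Nat.card R ≤ 2 ^ n := by
  obtain ⟨U, hU⟩ := hR.exists_le_sylow
  obtain ⟨m, hm⟩ := MulAction.exists_smul_eq G U S
  have hmem : ∀ r ∈ R, m * r * m⁻¹ ∈ (S : Subgroup G) := fun r hr => by
    rw [← hm]; exact ⟨r, hU hr, rfl⟩
  obtain ⟨k, hk⟩ := rot_of_sq_ne_one h (hmem _ hxR) (fun e => hi (by
    rwa [show m * x ^ i * m⁻¹ * (m * x ^ i * m⁻¹) = m * (x ^ i * x ^ i) * m⁻¹ by group,
      conj_eq_one_iff] at e))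
  have hsub : ∀ r ∈ R, m * r * m⁻¹ ∈ Subgroup.zpowers x := fun r hr => by
    refine rot_of_commute h (hmem r hr) (i := k) ?_ ?_
    · rw [← hk]
      intro e
      rw [show m * x ^ i * m⁻¹ * (m * x ^ i * m⁻¹) = m * (x ^ i * x ^ i) * m⁻¹ by group,
        conj_eq_one_iff] at e
      exact hi e
    · rw [← hk]
      exact (Commute.conj_iff m).2 (Subgroup.mem_centralizer_singleton_iff.1 (hRC hr))
  let f : R →* Subgroup.zpowers x :=
    { toFun := fun r => ⟨m * r * m⁻¹, hsub r r.2⟩
      map_one' := Subtype.ext (by simp)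
      map_mul' := fun a b => Subtype.ext (by simp [mul_assoc]) }
  have hf : Function.Injective f := fun a b e => by
    have e' : m * (a : G) * m⁻¹ = m * (b : G) * m⁻¹ := congrArg Subtype.val e
    exact Subtype.ext (mul_left_cancel (mul_right_cancel e'))
  refine ⟨isCyclic_of_injective f hf, ?_⟩
  rw [← h.ox, ← Nat.card_zpowers]
  exact Nat.card_le_card_of_injective f hf

theorem zpowers_le_centralizer_rot (i : ℤ) :
    Subgroup.zpowers x ≤ Subgroup.centralizer ({x ^ i} : Set G) := by
  rw [Subgroup.zpowers_le, Subgroup.mem_centralizer_singleton_iff]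
  exact (Commute.self_zpow x i).eq

theorem sylow_centralizer_rot (h : IsDihGen (S : Subgroup G) n x y) {i : ℤ}
    (hi : x ^ i * x ^ i ≠ 1) (T : Sylow 2 (Subgroup.centralizer ({x ^ i} : Set G))) :
    IsCyclic (T : Subgroup (Subgroup.centralizer ({x ^ i} : Set G))) ∧
      Nat.card (T : Subgroup (Subgroup.centralizer ({x ^ i} : Set G))) = 2 ^ n := by
  haveI : Fact (Nat.Prime 2) := ⟨Nat.prime_two⟩
  have hxi : x ^ i ∈ Subgroup.centralizer ({x ^ i} : Set G) :=
    Subgroup.mem_centralizer_singleton_iff.2 rfl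
  have hP : IsPGroup 2 ((Subgroup.zpowers x).subgroupOf (Subgroup.centralizer ({x ^ i} : Set G))) :=
    IsPGroup.of_card (n := n) (by
      rw [Nat.card_congr (Subgroup.subgroupOfEquivOfLe (zpowers_le_centralizer_rot i)).toEquiv,
        Nat.card_zpowers, h.ox])
  obtain ⟨T₀, hT₀⟩ := hP.exists_le_sylow
  have hcard : Nat.card (Subgroup.zpowers x) = 2 ^ n := by rw [Nat.card_zpowers, h.ox]
  have key : IsCyclic (T₀ : Subgroup (Subgroup.centralizer ({x ^ i} : Set G))) ∧
      Nat.card (T₀ : Subgroup (Subgroup.centralizer ({x ^ i} : Set G))) = 2 ^ n := by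
    let e := (T₀ : Subgroup (Subgroup.centralizer ({x ^ i} : Set G))).equivMapOfInjective _
      (Subgroup.centralizer ({x ^ i} : Set G)).subtype_injective
    obtain ⟨hc, hle⟩ := cyclic_of_le_centralizer_rot h hi (T₀.2.map _)
      (⟨⟨x ^ i, hxi⟩, hT₀ (Subgroup.mem_subgroupOf.2 (Subgroup.zpow_mem_zpowers x i)), rfl⟩)
      (Subgroup.map_subtype_le _)
    haveI := hc
    refine ⟨isCyclic_of_injective e.toMonoidHom e.injective, ?_⟩
    rw [Nat.card_congr e.toEquiv]
    refine le_antisymm hle ?_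
    rw [← hcard]
    exact Subgroup.card_le_of_le fun g hg =>
      ⟨⟨g, zpowers_le_centralizer_rot i hg⟩, hT₀ (Subgroup.mem_subgroupOf.2 hg), rfl⟩
  obtain ⟨c, hc⟩ := MulAction.exists_smul_eq (Subgroup.centralizer ({x ^ i} : Set G)) T₀ T
  let e := Sylow.equiv T₀ T
  haveI := key.1
  exact ⟨isCyclic_of_injective e.symm.toMonoidHom e.symm.injective,
    (Nat.card_congr e.toEquiv).symm.trans key.2⟩

theorem npc_rot (h : IsDihGen (S : Subgroup G) n x y) {i : ℤ} (hi : x ^ i * x ^ i ≠ 1) :
    Cfsg.HasNormalPComplement 2 (Subgroup.centralizer ({x ^ i} : Set G)) := by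
  haveI : Fact (Nat.Prime 2) := ⟨Nat.prime_two⟩
  obtain ⟨T⟩ : Nonempty (Sylow 2 (Subgroup.centralizer ({x ^ i} : Set G))) := inferInstance
  obtain ⟨hc, hcard⟩ := sylow_centralizer_rot h hi T
  refine Transfer.hasNormalPComplement_of_isCyclic_minFac ((Nat.minFac_eq_two_iff _).mpr ?_) T hc
  refine dvd_trans ?_ (Subgroup.card_subgroup_dvd_card (T : Subgroup _))
  rw [hcard]
  exact dvd_pow_self 2 (by have := h.one_le; omega)

theorem factorization_rot (h : IsDihGen (S : Subgroup G) n x y) {i : ℤ}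
    (hi : x ^ i * x ^ i ≠ 1) :
    (Nat.card (Subgroup.centralizer ({x ^ i} : Set G))).factorization 2 = n := by
  haveI : Fact (Nat.Prime 2) := ⟨Nat.prime_two⟩
  obtain ⟨T⟩ : Nonempty (Sylow 2 (Subgroup.centralizer ({x ^ i} : Set G))) := inferInstance
  have h1 := T.card_eq_multiplicity
  rw [(sylow_centralizer_rot h hi T).2] at h1
  exact (Nat.pow_right_injective le_rfl h1).symm

/-- Rotations of order at least four are fused only with their inverses. -/
theorem conj_rot (h : IsDihGen (S : Subgroup G) n x y) {i j : ℤ} (hi : x ^ i * x ^ i ≠ 1) {g : G}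
    (hg : g * x ^ i * g⁻¹ = x ^ j) : x ^ j = x ^ i ∨ x ^ j = (x ^ i)⁻¹ := by
  haveI : Fact (Nat.Prime 2) := ⟨Nat.prime_two⟩
  set u := x ^ i with hu
  set C := Subgroup.centralizer ({u} : Set G) with hC
  set N := Subgroup.normalizer (Subgroup.zpowers u : Set G) with hN
  have hnorm : ∀ a : G, a * u * a⁻¹ ∈ Subgroup.zpowers u → a ∈ N := fun a ha => by
    have hle : (Subgroup.zpowers u).map (MulAut.conj a).toMonoidHom ≤ Subgroup.zpowers u := by
      rw [MonoidHom.map_zpowers, Subgroup.zpowers_le]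
      exact ha
    have heq := Subgroup.eq_of_le_of_card_ge hle (by
      rw [Subgroup.card_map_of_injective (MulAut.conj a).injective])
    rw [hN, Subgroup.mem_normalizer_iff]
    intro d
    constructor
    · intro hd; rw [← heq]; exact ⟨d, hd, rfl⟩
    · intro hd
      rw [← heq] at hd
      obtain ⟨d', hd', he⟩ := hd
      rwa [← (MulAut.conj a).injective he]
  have hgN : g ∈ N := hnorm g (by
    rw [hg]
    -- equal orders inside a cyclic group
    have hle : Subgroup.zpowers (x ^ j) = Subgroup.zpowers u := by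
      have hc : Nat.card (Subgroup.zpowers (x ^ j)) = Nat.card (Subgroup.zpowers u) := by
        rw [Nat.card_zpowers, Nat.card_zpowers, ← hg]
        exact orderOf_injective (MulAut.conj g).toMonoidHom (MulAut.conj g).injective u
      have key : ∀ {A B : Subgroup G}, A ≤ Subgroup.zpowers x → B ≤ Subgroup.zpowers x →
          Nat.card A ∣ Nat.card B → A ≤ B := by
        intro A B hA hB hAB a ha
        have h1 := Transfer.le_of_card_dvd_of_isCyclic (A := Subgroup.zpowers x)
          (H := A.subgroupOf (Subgroup.zpowers x)) (K := B.subgroupOf (Subgroup.zpowers x)) (by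
            rwa [Nat.card_congr (Subgroup.subgroupOfEquivOfLe hA).toEquiv,
              Nat.card_congr (Subgroup.subgroupOfEquivOfLe hB).toEquiv])
        exact Subgroup.mem_subgroupOf.1 (h1 (show (⟨a, hA ha⟩ : Subgroup.zpowers x) ∈ _ from
          Subgroup.mem_subgroupOf.2 ha))
      exact le_antisymm
        (key ((Subgroup.zpowers_le).2 (Subgroup.zpow_mem_zpowers x j))
          ((Subgroup.zpowers_le).2 (Subgroup.zpow_mem_zpowers x i)) (dvd_of_eq hc))
        (key ((Subgroup.zpowers_le).2 (Subgroup.zpow_mem_zpowers x i))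
          ((Subgroup.zpowers_le).2 (Subgroup.zpow_mem_zpowers x j)) (dvd_of_eq hc.symm))
    rw [← hle]; exact Subgroup.mem_zpowers _)
  have hyu : y * u * y⁻¹ = u⁻¹ := by
    rw [hu, ← conj_zpow, h.rel, inv_zpow]
  have hyN : y ∈ N := hnorm y (by rw [hyu]; exact inv_mem (Subgroup.mem_zpowers u))
  have hCeq : C = Subgroup.centralizer (Subgroup.zpowers u : Set G) := by
    rw [hC, Subgroup.zpowers_eq_closure, Subgroup.centralizer_closure]
  have hCN : C ≤ N := hCeq ▸ Subgroup.centralizer_le_normalizer _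
  have hyC : y ∉ C := fun hy => by
    rw [hC, Subgroup.mem_centralizer_singleton_iff] at hy
    rw [hy, mul_inv_cancel_right] at hyu
    exact hi (mul_eq_one_iff_eq_inv.2 hyu)
  obtain ⟨b, hb⟩ : ∃ b, C.relIndex N = 2 ^ b := by
    have h1 : C.relIndex N ∣ Nat.card (MulAut (Subgroup.zpowers u)) := by
      rw [Subgroup.relIndex, hCeq, ← Subgroup.normalizerMonoidHom_ker, Subgroup.index_ker]
      exact Subgroup.card_subgroup_dvd_card _
    rw [IsCyclic.card_mulAut, Nat.card_zpowers] at h1
    obtain ⟨k, -, hk⟩ := (Nat.dvd_prime_pow Nat.prime_two).1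
      ((orderOf_dvd_of_pow_eq_one (x := u) (n := 2 ^ n) (by
        rw [hu, ← zpow_natCast, ← zpow_mul, h.zpow_eq_one_iff]
        exact ⟨i, by push_cast; ring⟩)))
    rw [hk] at h1
    cases k with
    | zero =>
      rw [pow_zero, Nat.totient_one, Nat.dvd_one] at h1
      exact ⟨0, h1⟩
    | succ k =>
      rw [Nat.totient_prime_pow_succ Nat.prime_two, show 2 - 1 = 1 from rfl, mul_one] at h1
      obtain ⟨b, -, hb⟩ := (Nat.dvd_prime_pow Nat.prime_two).1 h1
      exact ⟨b, hb⟩
  have hrel : C.relIndex N = 2 := by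
    have hne : C.relIndex N ≠ 1 := fun h1 => hyC (Subgroup.relIndex_eq_one.1 h1 hyN)
    have hcard := Subgroup.relIndex_mul_relIndex ⊥ C N bot_le hCN
    rw [Subgroup.relIndex_bot_left, Subgroup.relIndex_bot_left, hb] at hcard
    have hfac := congrArg (fun m => m.factorization 2) hcard
    simp only [Nat.factorization_mul Nat.card_pos.ne' (pow_ne_zero b two_ne_zero), Finsupp.add_apply,
      Nat.factorization_pow_self Nat.prime_two] at hfac
    rw [hC, hu, factorization_rot h hi] at hfac
    have hNle : (Nat.card N).factorization 2 ≤ n + 1 := by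
      obtain ⟨T⟩ : Nonempty (Sylow 2 N) := inferInstance
      obtain ⟨U, hU⟩ := (T.2.map N.subtype).exists_le_sylow
      have h1 := Subgroup.card_le_of_le hU
      rw [Subgroup.card_map_of_injective N.subtype_injective, T.card_eq_multiplicity,
        U.card_eq_multiplicity, ← S.card_eq_multiplicity, h.card] at h1
      exact (Nat.pow_le_pow_iff_right (le_refl 2)).1 h1
    rw [hb] at hne ⊢
    have hb0 : b ≠ 0 := fun h0 => hne (by rw [h0, pow_zero])
    have : b = 1 := by omega
    rw [this, pow_one]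
  by_cases hgC : g ∈ C
  · left
    rw [hC, Subgroup.mem_centralizer_singleton_iff] at hgC
    rw [← hg, hgC, mul_inv_cancel_right]
  · right
    have h1 : (⟨y, hyN⟩⁻¹ * ⟨g, hgN⟩ : N) ∈ C.subgroupOf N := by
      rw [Subgroup.mul_mem_iff_of_index_two (show (C.subgroupOf N).index = 2 from hrel), inv_mem_iff,
        Subgroup.mem_subgroupOf, Subgroup.mem_subgroupOf]
      exact iff_of_false hyC hgC
    rw [Subgroup.mem_subgroupOf] at h1
    have h2 : y⁻¹ * g * u = u * (y⁻¹ * g) := Subgroup.mem_centralizer_singleton_iff.1 h1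
    rw [← hg, ← hyu, mul_inv_eq_iff_eq_mul]
    calc g * u = y * (y⁻¹ * g * u) := by group
      _ = y * u * y⁻¹ * g := by rw [h2]; group

/-- The central involution. -/
theorem commute_z (h : IsDihGen (S : Subgroup G) n x y) {g : G} (hg : g ∈ (S : Subgroup G)) :
    Commute (x ^ ((2 : ℤ) ^ (n - 1))) g := h.z_comm hg

theorem le_centralizer_z (h : IsDihGen (S : Subgroup G) n x y) :
    (S : Subgroup G) ≤ Subgroup.centralizer ({x ^ ((2 : ℤ) ^ (n - 1))} : Set G) := fun _ hg =>
  Subgroup.mem_centralizer_singleton_iff.2 (commute_z h hg).eq.symm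

/-- An element of odd order fixing the central involution centralises every subgroup of `S` it
normalises. -/
theorem centralizes_of_fix_z (h : IsDihGen (S : Subgroup G) n x y) {Q : Subgroup G}
    (hQ : Q ≤ (S : Subgroup G)) {g : G} (hg : g ∈ Subgroup.normalizer (Q : Set G))
    (hgo : (orderOf g).Coprime 2) (hgz : Commute g (x ^ ((2 : ℤ) ^ (n - 1)))) :
    ∀ q ∈ Q, Commute g q := by
  have hrot : ∀ i : ℤ, x ^ i ∈ Q → Commute g (x ^ i) := by
    intro i hi
    by_cases h2 : x ^ i * x ^ i = 1
    · rcases h.zpow_of_mul_self h2 with e | e <;> rw [e]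
      · exact Commute.one_right g
      · exact hgz
    · have hm := (Subgroup.mem_normalizer_iff.1 hg (x ^ i)).1 hi
      obtain ⟨j, hj⟩ := rot_of_sq_ne_one h (hQ hm) (fun e => h2 (by
        rwa [show g * x ^ i * g⁻¹ * (g * x ^ i * g⁻¹) = g * (x ^ i * x ^ i) * g⁻¹ by group,
          conj_eq_one_iff] at e))
      refine commute_of_sq_of_odd hgo ?_
      show g ^ 2 * x ^ i = x ^ i * g ^ 2
      rw [← mul_inv_eq_iff_eq_mul]
      calc g ^ 2 * x ^ i * (g ^ 2)⁻¹ = g * (g * x ^ i * g⁻¹) * g⁻¹ := by rw [pow_two]; group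
        _ = x ^ i := by
          rcases conj_rot h h2 hj with e | e
          · rw [hj, e, hj, e]
          · rw [hj, e, show g * (x ^ i)⁻¹ * g⁻¹ = (g * x ^ i * g⁻¹)⁻¹ by group, hj, e, inv_inv]
  intro q hq
  obtain ⟨i, rfl | rfl⟩ := h.mem_cases (hQ hq)
  · exact hrot i hq
  · -- a reflection
    have hm := (Subgroup.mem_normalizer_iff.1 hg _).1 hq
    obtain ⟨j, hj | hj⟩ := h.mem_cases (hQ hm)
    · exfalso
      have hc : Commute g (x ^ j) := hrot j (hj ▸ hm)
      have h1 : x ^ i * y = x ^ j := by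
        have h2 : x ^ i * y = g⁻¹ * x ^ j * g := by rw [← hj]; group
        rw [h2, mul_assoc, ← hc.eq, inv_mul_cancel_left]
      exact h.zpow_mul_y_ne i j h1
    · have hρ : x ^ (j - i) ∈ Q := by
        have h1 := mul_mem (hj ▸ hm : x ^ j * y ∈ Q) hq
        rwa [mul_assoc, ← mul_assoc y, h.y_mul_zpow, mul_assoc, h.yy, mul_one, ← zpow_add,
          ← sub_eq_add_neg] at h1
      have hc := hrot _ hρ
      set ρ := x ^ (j - i) with hρdef
      set r := x ^ i * y with hr
      have h1 : g * r * g⁻¹ = ρ * r := by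
        rw [hj, hρdef, hr, ← mul_assoc, ← zpow_add, sub_add_cancel]
      have hpow : ∀ k : ℕ, g ^ k * r * (g ^ k)⁻¹ = ρ ^ k * r := by
        intro k
        induction k with
        | zero => simp
        | succ k ih =>
          rw [pow_succ', pow_succ ρ]
          calc g * g ^ k * r * (g * g ^ k)⁻¹ = g * (g ^ k * r * (g ^ k)⁻¹) * g⁻¹ := by group
            _ = g * ρ ^ k * g⁻¹ * (g * r * g⁻¹) := by rw [ih]; group
            _ = ρ ^ k * ρ * r := by
              rw [(hc.pow_right k).eq, mul_inv_cancel_right, h1, mul_assoc]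
      have h2 := hpow (orderOf g)
      rw [pow_orderOf_eq_one, one_mul, inv_one, mul_one] at h2
      have h3 : ρ ^ orderOf g = 1 := mul_eq_right.1 h2.symm
      have h4 : ρ ^ 2 ^ n = 1 := by
        rw [hρdef, ← zpow_natCast, ← zpow_mul, h.zpow_eq_one_iff]
        exact ⟨j - i, by push_cast; ring⟩
      have h5 : ρ = 1 := by
        have := Nat.dvd_gcd (orderOf_dvd_of_pow_eq_one h3) (orderOf_dvd_of_pow_eq_one h4)
        rw [(hgo.pow_right n).gcd_eq_one, Nat.dvd_one, orderOf_eq_one_iff] at this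
        exact this
      rw [h5, one_mul, mul_inv_eq_iff_eq_mul] at h1
      exact h1

/-- The centraliser of the central involution satisfies Frobenius' hypothesis. -/
theorem frobenius_hyp_z (h : IsDihGen (S : Subgroup G) n x y) :
    ∀ Q : Subgroup (Subgroup.centralizer ({x ^ ((2 : ℤ) ^ (n - 1))} : Set G)), IsPGroup 2 Q →
      ∀ g ∈ Subgroup.normalizer (Q : Set (Subgroup.centralizer ({x ^ ((2 : ℤ) ^ (n - 1))} : Set G))),
        (orderOf g).Coprime 2 → g ∈ Subgroup.centralizer (Q : Set _) := by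
  haveI : Fact (Nat.Prime 2) := ⟨Nat.prime_two⟩
  set C := Subgroup.centralizer ({x ^ ((2 : ℤ) ^ (n - 1))} : Set G)
  intro Q hQ g hg hgo
  obtain ⟨T, hT⟩ := hQ.exists_le_sylow
  obtain ⟨m, hm⟩ := MulAction.exists_smul_eq C T (S.subtype (le_centralizer_z h))
  have hmem : ∀ q ∈ Q, ((m * q * m⁻¹ : C) : G) ∈ (S : Subgroup G) := fun q hq => by
    have h1 : m * q * m⁻¹ ∈ ((m • T : Sylow 2 C) : Subgroup C) := ⟨q, hT hq, rfl⟩
    rw [hm, Sylow.coe_subtype, Subgroup.mem_subgroupOf] at h1
    exact h1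
  let Q' : Subgroup G := (Q.map (MulAut.conj m).toMonoidHom).map C.subtype
  have hQ'S : Q' ≤ (S : Subgroup G) := by
    rintro _ ⟨_, ⟨q, hq, rfl⟩, rfl⟩
    exact hmem q hq
  have hcomm := centralizes_of_fix_z h hQ'S (g := ((m * g * m⁻¹ : C) : G)) ?_ ?_
    (Subgroup.mem_centralizer_singleton_iff.1 (m * g * m⁻¹).2)
  · rw [Subgroup.mem_centralizer_iff]
    intro q hq
    have h1 := hcomm _ ⟨_, ⟨q, hq, rfl⟩, rfl⟩
    have h2 : Commute (m * g * m⁻¹) (m * q * m⁻¹) := Subtype.ext h1.eq
    exact ((Commute.conj_iff m).1 h2).eq.symm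
  · refine Subgroup.mem_normalizer_fintype ?_
    rintro _ ⟨_, ⟨q, hq, rfl⟩, rfl⟩
    refine ⟨_, ⟨g * q * g⁻¹, (Subgroup.mem_normalizer_iff.1 hg q).1 hq, rfl⟩, ?_⟩
    simp [mul_assoc]
  · rw [Subgroup.orderOf_coe]
    exact (orderOf_injective (MulAut.conj m).toMonoidHom (MulAut.conj m).injective g).symm ▸ hgo

theorem npc_z (h : IsDihGen (S : Subgroup G) n x y) :
    Cfsg.HasNormalPComplement 2 (Subgroup.centralizer ({x ^ ((2 : ℤ) ^ (n - 1))} : Set G)) :=
  haveI : Fact (Nat.Prime 2) := ⟨Nat.prime_two⟩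
  Transfer.hasNormalPComplement_of_pLocal_centralizes (frobenius_hyp_z h)

theorem factorization_z (h : IsDihGen (S : Subgroup G) n x y) :
    (Nat.card (Subgroup.centralizer ({x ^ ((2 : ℤ) ^ (n - 1))} : Set G))).factorization 2 = n + 1 := by
  haveI : Fact (Nat.Prime 2) := ⟨Nat.prime_two⟩
  have h1 := (S.subtype (le_centralizer_z h)).card_eq_multiplicity
  rw [Sylow.coe_subtype,
    Nat.card_congr (Subgroup.subgroupOfEquivOfLe (le_centralizer_z h)).toEquiv, h.card] at h1
  exact (Nat.pow_right_injective le_rfl h1).symm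

/-- The centraliser of a reflection not fused with the central involution. -/
theorem refl_centralizer (h : IsDihGen (S : Subgroup G) n x y) {i : ℤ}
    (hne : ¬ IsConj (x ^ ((2 : ℤ) ^ (n - 1))) (x ^ i * y)) :
    Cfsg.HasNormalPComplement 2 (Subgroup.centralizer ({x ^ i * y} : Set G)) ∧
      (Nat.card (Subgroup.centralizer ({x ^ i * y} : Set G))).factorization 2 = 2 := by
  haveI : Fact (Nat.Prime 2) := ⟨Nat.prime_two⟩
  set t := x ^ i * y with ht
  set C := Subgroup.centralizer ({t} : Set G) with hC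
  obtain ⟨U, hU, hUS, hUiff⟩ := h.exists_four i
  have htU : t ∈ U := (hUiff t).2 (Or.inr (Or.inr (Or.inl rfl)))
  have hUC : U ≤ C := fun g hg => by
    haveI := hU
    exact Subgroup.mem_centralizer_singleton_iff.2 (congrArg Subtype.val
      (mul_comm_of_exponent_two hU.exponent_two (⟨g, hg⟩ : U) ⟨t, htU⟩))
  have key : ∀ R : Subgroup C, IsPGroup 2 R → ∀ g ∈ Subgroup.normalizer (R : Set C),
      (orderOf g).Coprime 2 → g ∈ Subgroup.centralizer (R : Set C) ∧ Nat.card R ≤ 4 := by
    intro R hR g hg hgo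
    set tC : C := ⟨t, Subgroup.mem_centralizer_singleton_iff.2 rfl⟩
    have hR' : IsPGroup 2 (R ⊔ Subgroup.zpowers tC : Subgroup C) := by
      have hN : (Subgroup.zpowers tC).Normal := ⟨fun a ha c => by
        obtain ⟨k, rfl⟩ := Subgroup.mem_zpowers_iff.1 ha
        have hct : Commute c tC :=
          Subtype.ext (Subgroup.mem_centralizer_singleton_iff.1 c.2)
        rw [(hct.zpow_right k).eq, mul_inv_cancel_right]
        exact ha⟩
      refine hR.to_sup_of_normal_right (IsPGroup.of_card (n := 1) ?_)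
      rw [Nat.card_zpowers, ← Subgroup.orderOf_coe, pow_one]
      exact h.orderOf_refl i
    obtain ⟨W, hW⟩ := (hR'.map C.subtype).exists_le_sylow
    obtain ⟨m, hm⟩ := MulAction.exists_smul_eq G W S
    have hmem : ∀ r ∈ (R ⊔ Subgroup.zpowers tC : Subgroup C), m * (r : G) * m⁻¹ ∈ (S : Subgroup G) :=
      fun r hr => by rw [← hm]; exact ⟨r, hW ⟨r, hr, rfl⟩, rfl⟩
    have hto : orderOf (m * t * m⁻¹) = 2 :=
      (orderOf_injective (MulAut.conj m).toMonoidHom (MulAut.conj m).injective t).trans
        (h.orderOf_refl i)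
    obtain hz | ⟨k, hk⟩ := h.mem_involution
      (hmem tC ((le_sup_right : Subgroup.zpowers tC ≤ _) (Subgroup.mem_zpowers tC))) hto
    · exact absurd (isConj_iff.2 ⟨m⁻¹, by
        change m * t * m⁻¹ = _ at hz
        rw [← hz]; group⟩) hne
    change m * t * m⁻¹ = _ at hk
    set a := m⁻¹ * x ^ ((2 : ℤ) ^ (n - 1)) * m with ha
    have hcases : ∀ r ∈ R, (r : G) = 1 ∨ (r : G) = t ∨ (r : G) = a ∨ (r : G) = a * t := by
      intro r hr
      have hc : m * (r : G) * m⁻¹ * (x ^ k * y) = x ^ k * y * (m * (r : G) * m⁻¹) := by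
        rw [← hk]
        exact ((Commute.conj_iff m).2 (Subgroup.mem_centralizer_singleton_iff.1 r.2)).eq
      have hback : ∀ z' : G, m * (r : G) * m⁻¹ = z' → (r : G) = m⁻¹ * z' * m := fun z' e => by
        rw [← e]; group
      rcases h.comm_refl (hmem r ((le_sup_left : R ≤ _) hr)) hc with e | e | e | e
      · exact Or.inl (by rw [hback _ e]; group)
      · exact Or.inr (Or.inr (Or.inl (hback _ e)))
      · exact Or.inr (Or.inl (by rw [hback _ e, ← hk]; group))
      · exact Or.inr (Or.inr (Or.inr (by rw [hback _ e, ← hk, ha]; group)))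
    refine ⟨?_, ?_⟩
    · rw [Subgroup.mem_centralizer_iff]
      intro r hr
      refine Commute.eq (Commute.symm ?_)
      have hgt : Commute (g : G) t := Subgroup.mem_centralizer_singleton_iff.1 g.2
      have htt : t * t = 1 := h.mul_self i
      have hat : Commute a t := by
        have hx := (Commute.conj_iff m⁻¹).2 (show Commute (x ^ ((2 : ℤ) ^ (n - 1))) (x ^ k * y) from
          commute_z h (h.refl_mem k))
        rw [inv_inv] at hx
        rwa [← hk, show m⁻¹ * (m * t * m⁻¹) * m = t by group] at hx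
      apply Subtype.ext
      show (g : G) * r = r * g
      set u := (g : G) * r * (g : G)⁻¹ with hu
      by_cases hfix : u = r
      · exact mul_inv_eq_iff_eq_mul.1 hfix
      refine (commute_of_sq_of_odd (g := (g : G)) (a := (r : G))
        (by rw [Subgroup.orderOf_coe]; exact hgo) ?_).eq
      have hu1 : u ≠ 1 := fun e1 => hfix (by
        rw [e1]; exact (conj_eq_one_iff.1 e1).symm)
      have hut : u ≠ t := fun e1 => hfix (by
        have e2 : (r : G) = t := by
          have e3 : (g : G) * r = t * g := mul_inv_eq_iff_eq_mul.1 e1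
          rw [← hgt.eq] at e3
          exact mul_left_cancel e3
        rw [e1, e2])
      have hut' : u = (r : G) * t := by
        have hm1 := hcases _ ((Subgroup.mem_normalizer_iff.1 hg r).1 hr)
        simp only [Subgroup.coe_mul, Subgroup.coe_inv] at hm1
        rw [← hu] at hm1
        rcases hm1 with e | e | e | e
        · exact absurd e hu1
        · exact absurd e hut
        all_goals rcases hcases r hr with e' | e' | e' | e'
        · exact absurd (by rw [hu, e']; group) hu1
        · exact absurd (by rw [hu, e', hgt.eq]; group) hut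
        · exact absurd (e.trans e'.symm) hfix
        · rw [e, e', mul_assoc, htt, mul_one]
        · exact absurd (by rw [hu, e']; group) hu1
        · exact absurd (by rw [hu, e', hgt.eq]; group) hut
        · rw [e, e']
        · exact absurd (e.trans e'.symm) hfix
      show (g : G) ^ 2 * r = r * (g : G) ^ 2
      rw [← mul_inv_eq_iff_eq_mul]
      calc (g : G) ^ 2 * r * ((g : G) ^ 2)⁻¹ = (g : G) * u * (g : G)⁻¹ := by rw [hu, pow_two]; group
        _ = u * t := by
          rw [hut', show (g : G) * ((r : G) * t) * (g : G)⁻¹ = (g : G) * r * (g : G)⁻¹ * ((g : G) * t * (g : G)⁻¹) by group,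
            hgt.eq, mul_inv_cancel_right, ← hu, hut']
        _ = (r : G) := by rw [hut', mul_assoc, htt, mul_one]
    · classical
      refine le_trans (Nat.card_le_card_of_injective (β := ({1, t, a, a * t} : Finset G))
        (fun r : R => ⟨((r : C) : G), by
          simp only [Finset.mem_insert, Finset.mem_singleton]
          exact hcases r r.2⟩) (fun r r' e => Subtype.ext (Subtype.ext (congrArg Subtype.val e :)))) ?_
      rw [Nat.card_eq_finsetCard]
      exact Finset.card_le_four
  refine ⟨Transfer.hasNormalPComplement_of_pLocal_centralizes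
    fun R hR g hg hgo => (key R hR g hg hgo).1, ?_⟩
  obtain ⟨T, hT⟩ := (IsPGroup.of_card (n := 2) (p := 2) (G := U.subgroupOf C) (by
    rw [Nat.card_congr (Subgroup.subgroupOfEquivOfLe hUC).toEquiv, hU.card_four]; norm_num)).exists_le_sylow
  have h1 := (key _ T.2 1 (one_mem _) (by rw [orderOf_one]; exact Nat.coprime_one_left 2)).2
  have h2 := Subgroup.card_le_of_le hT
  rw [Nat.card_congr (Subgroup.subgroupOfEquivOfLe hUC).toEquiv, hU.card_four] at h2
  have h3 : 2 ^ (Nat.card C).factorization 2 = 2 ^ 2 := by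
    rw [← T.card_eq_multiplicity]; omega
  exact Nat.pow_right_injective le_rfl h3

end CfsgLib.DihedralBlock
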