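import Cfsg.Agent.DihedralBlock.Block
import Cfsg.Agent.DihedralBlock.Counting
import Cfsg.Agent.Chars.Basic.ClassSum
import Cfsg.Agent.S0840
import Cfsg.Agent.Blocks.Orth.SecondMain

/-!
# The order formula for dihedral Sylow 2-subgroups and one class of involutions

The class function `∑ W χ • χ` on the principal block, with `W χ` the mean of the column system plus
the column of the central involution, is twice the indicator of the 2-singular elements plus twice
the indicator of the section of an involution.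
-/

set_option autoImplicit false
set_option linter.style.haveILetI false

namespace CfsgLib.DihedralBlock

open Cfsg CfsgLib.Blocks CfsgLib.FusionTwo

universe u

variable {G : Type u} [Group G] [Finite G] {S : Sylow 2 G} {n : ℕ} {x y : G} {M : Ideal AlgInt}

/-- A conjugate of the 2-part of a singular element is a rotation. -/
theorem exists_rot_part (h : IsDihGen (S : Subgroup G) n x y)
    (hone : ∀ t : G, orderOf t = 2 → IsConj (x ^ ((2 : ℤ) ^ (n - 1))) t) {u : G}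
    (hu : ∃ k, orderOf u = 2 ^ k) (hu1 : u ≠ 1) :
    ∃ (g : G) (μ : ZMod (2 ^ n)), μ ≠ 0 ∧ g * u * g⁻¹ = rot x μ := by
  haveI : Fact (Nat.Prime 2) := ⟨Nat.prime_two⟩
  obtain ⟨k, hk⟩ := hu
  obtain ⟨W, hW⟩ := (IsPGroup.of_card (p := 2) (n := k) (G := Subgroup.zpowers u)
    (by rw [Nat.card_zpowers, hk])).exists_le_sylow
  obtain ⟨g, hg⟩ := MulAction.exists_smul_eq G W S
  have hgu : g * u * g⁻¹ ∈ (S : Subgroup G) := by
    rw [← hg]; exact ⟨u, hW (Subgroup.mem_zpowers u), rfl⟩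
  rcases h.mem_cases hgu with ⟨i, e | e⟩
  · refine ⟨g, (i : ZMod (2 ^ n)), fun e0 => hu1 ?_, by rw [rot_intCast h, e]⟩
    rw [← rot_intCast h, e0, rot_zero] at e
    exact conj_eq_one_iff.1 e
  · obtain ⟨c, hc⟩ := isConj_iff.1 (hone _ (h.orderOf_refl i))
    refine ⟨c⁻¹ * g, half n, half_ne_zero h, ?_⟩
    calc c⁻¹ * g * u * (c⁻¹ * g)⁻¹ = c⁻¹ * (g * u * g⁻¹) * c := by group
      _ = rot x (half n) := by rw [e, ← hc, rot_half h]; group

theorem npc_of_rot (h : IsDihGen (S : Subgroup G) n x y) {μ : ZMod (2 ^ n)} (hμ : μ ≠ 0) :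
    HasNormalPComplement 2 (Subgroup.centralizer ({rot x μ} : Set G)) := by
  by_cases hμh : μ = half n
  · rw [hμh, rot_half h]; exact npc_z h
  · exact npc_rot h (sq_ne_one h hμ hμh)

/-- The values of the block at a singular element are those at a rotation. -/
theorem val_singular (h : IsDihGen (S : Subgroup G) n x y) (hM : IsPModular 2 M)
    (hone : ∀ t : G, orderOf t = 2 → IsConj (x ^ ((2 : ℤ) ^ (n - 1))) t) {g : G}
    (hg : 2 ∣ orderOf g) :
    ∃ μ : ZMod (2 ^ n), μ ≠ 0 ∧ (μ = half n ↔ ¬ 4 ∣ orderOf g) ∧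
      ∀ χ ∈ B0 M, (χ : G → ℂ) g = rotVal x χ μ := by
  haveI : Fact (Nat.Prime 2) := ⟨Nat.prime_two⟩
  haveI := Fintype.ofFinite G
  haveI := isMaximal_of_isPModular hM
  obtain ⟨u, r, hur, hc, hu, hr⟩ := exists_isPPart (G := G) Nat.prime_two g
  have hu1 : u ≠ 1 := fun e => hr (by rwa [← hur, e, one_mul] at hg)
  obtain ⟨c, μ, hμ, hμu⟩ := exists_rot_part h hone hu hu1
  set r' := c * r * c⁻¹ with hr'
  have hg' : c * g * c⁻¹ = rot x μ * r' := by rw [← hur, ← hμu, hr']; group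
  have hc' : Commute (rot x μ) r' := by rw [← hμu]; exact (Commute.conj_iff c).2 hc
  have hord : ∀ w : G, orderOf (c * w * c⁻¹) = orderOf w := fun w =>
    orderOf_injective (MulAut.conj c).toMonoidHom (MulAut.conj c).injective w
  have hr'odd : ¬ 2 ∣ orderOf r' := by rw [hr', hord]; exact hr
  refine ⟨μ, hμ, ?_, fun χ hχ => ?_⟩
  · obtain ⟨k, hk⟩ := orderOf_rot h μ
    have hog : orderOf g = 2 ^ k * orderOf r' := by
      rw [← hord g, hg', hc'.orderOf_mul_eq_mul_orderOf_of_coprime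
        (by rw [hk]; exact (Nat.prime_two.coprime_iff_not_dvd.2 hr'odd).pow_left k), hk]
    constructor
    · rintro e h4
      have : 2 ^ k = 2 := by rw [← hk, e, rot_half h]; exact h.orderOf_z
      rw [hog, this, show (4 : ℕ) = 2 * 2 from rfl] at h4
      exact hr'odd (Nat.dvd_of_mul_dvd_mul_left two_pos h4)
    · intro h4
      by_contra hne
      refine h4 ?_
      rw [hog]
      refine Dvd.dvd.mul_right ?_ _
      rw [show (4 : ℕ) = 2 ^ 2 from rfl]
      refine pow_dvd_pow 2 ?_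
      by_contra hk2
      refine sq_ne_one h hμ hne ?_
      rw [← pow_two, ← orderOf_dvd_iff_pow_eq_one, hk]
      calc 2 ^ k ∣ 2 ^ 1 := pow_dvd_pow 2 (by omega)
        _ = 2 := pow_one 2
  · have hmem : r' ∈ ZStar.coreC 2 (Subgroup.zpowers (rot x μ)) := by
      have key : ∀ (C : Subgroup G) (_ : C = Subgroup.centralizer ({rot x μ} : Set G)) (hm : r' ∈ C),
          (⟨r', hm⟩ : C) ∈ pPrimeCore 2 C := by
        rintro C rfl hm
        exact mem_pPrimeCore (npc_of_rot h hμ) (by rwa [← Subgroup.orderOf_coe])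
      exact ⟨⟨r', ZStar.mem_centralizer_zpowers_iff.2 hc'⟩,
        key _ (HeightZero.centralizer_zpowers_eq (rot x μ)) _, rfl⟩
    rw [Chars.eq_of_isConj (Chars.isClassFunction_coe χ) (isConj_iff.2 ⟨c, rfl⟩), hg',
      ZStar.apply_mul_eq_apply hM (orderOf_rot h μ) hmem (mem_B0.1 hχ)]
    rfl

/-- The weight of a member of the block. -/
noncomputable def weight (x : G) (n : ℕ) (χ : IrrCharacter G) : ℂ :=
  ((2 : ℂ) ^ n)⁻¹ * (∑ μ ∈ (Finset.univ : Finset (ZMod (2 ^ n))).erase 0, rotVal x χ μ +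
    rotVal x χ (half n))

open scoped Classical in
/-- The class function of the weights. -/
theorem sum_weight (h : IsDihGen (S : Subgroup G) n x y) (hM : IsPModular 2 M)
    (hone : ∀ t : G, orderOf t = 2 → IsConj (x ^ ((2 : ℤ) ^ (n - 1))) t) (g : G) :
    ∑ χ ∈ B0 M, weight x n χ * (χ : G → ℂ) g =
      2 * (if 2 ∣ orderOf g then 1 else 0) +
        2 * (if 2 ∣ orderOf g ∧ ¬ 4 ∣ orderOf g then 1 else 0) := by
  have e : ∑ χ ∈ B0 M, weight x n χ * (χ : G → ℂ) g = ((2 : ℂ) ^ n)⁻¹ *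
      (∑ ν ∈ (Finset.univ : Finset (ZMod (2 ^ n))).erase 0,
          ∑ χ ∈ B0 M, rotVal x χ ν * (χ : G → ℂ) g +
        ∑ χ ∈ B0 M, rotVal x χ (half n) * (χ : G → ℂ) g) := by
    rw [Finset.sum_comm, ← Finset.sum_add_distrib, Finset.mul_sum]
    refine Finset.sum_congr rfl fun χ _ => ?_
    rw [weight, ← Finset.sum_mul, ← add_mul, mul_assoc]
  rw [e]
  by_cases hg : 2 ∣ orderOf g
  · obtain ⟨μ, hμ, hμh, hval⟩ := val_singular h hM hone hg
    have e1 : ∀ ν : ZMod (2 ^ n), ν ≠ 0 → ∑ χ ∈ B0 M, rotVal x χ ν * (χ : G → ℂ) g =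
        2 ^ n * ((if ν = μ then 1 else 0) + (if ν = -μ then 1 else 0)) := by
      intro ν hν
      rw [Finset.sum_congr rfl fun χ hχ => by rw [hval χ hχ, mul_comm], gram h hM hμ hν]
    rw [Finset.sum_congr rfl fun ν hν => e1 ν (Finset.ne_of_mem_erase hν), e1 _ (half_ne_zero h),
      if_pos hg, ← Finset.mul_sum, Finset.sum_add_distrib, Finset.sum_ite_eq', Finset.sum_ite_eq',
      if_pos (Finset.mem_erase.2 ⟨hμ, Finset.mem_univ _⟩),
      if_pos (Finset.mem_erase.2 ⟨neg_ne_zero.2 hμ, Finset.mem_univ _⟩)]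
    have h0 : ((2 : ℂ) ^ n) ≠ 0 := pow_ne_zero _ two_ne_zero
    by_cases h4 : μ = half n
    · rw [if_pos h4.symm, if_pos (by rw [h4, neg_half h]), if_pos ⟨hg, hμh.1 h4⟩]
      field_simp
      ring
    · rw [if_neg (Ne.symm h4), if_neg (fun e2 => h4 (by rw [← neg_neg μ, ← e2, neg_half h])),
        if_neg (fun e2 => h4 (hμh.2 e2.2))]
      field_simp
      ring
  · rw [if_neg hg, if_neg (fun e2 => hg e2.1), sum_rotVal_regular h hM (half_ne_zero h) hg,
      Finset.sum_eq_zero fun ν hν => sum_rotVal_regular h hM (Finset.ne_of_mem_erase hν) hg]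
    ring

/-- The order formula. -/
theorem order_formula (h : IsDihGen (S : Subgroup G) n x y) (hn : 2 ≤ n) (hM : IsPModular 2 M)
    (hone : ∀ t : G, orderOf t = 2 → IsConj (x ^ ((2 : ℤ) ^ (n - 1))) t)
    {χ : IrrCharacter G} (hχ : χ ∈ principalBlock M G) (hne : χ ≠ Chars.oneChar G) {δ : ℤ}
    (hval : ∀ μ : ZMod (2 ^ n), μ ≠ 0 → rotVal x χ μ = δ) :
    (charDegree (χ : G → ℂ) : ℤ) ≠ δ ∧
    (Nat.card G : ℚ) * ((charDegree (χ : G → ℂ) : ℚ) - δ) ^ 2 =
      2 * (charDegree (χ : G → ℂ) : ℚ) * ((charDegree (χ : G → ℂ) : ℚ) + δ) *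
        (Nat.card (Subgroup.centralizer ({x ^ ((2 : ℤ) ^ (n - 1))} : Set G)) : ℚ) ^ 3 *
        (1 / (Nat.card (Subgroup.centralizer ({x ^ ((2 : ℤ) ^ (n - 1)), y} : Set G)) : ℚ) +
          1 / (Nat.card (Subgroup.centralizer ({x ^ ((2 : ℤ) ^ (n - 1)), x * y} : Set G)) : ℚ)) ^ 2 := by
  classical
  haveI := Fintype.ofFinite G
  have hN : (2 : ℂ) ^ n ≠ 0 := pow_ne_zero _ two_ne_zero
  have hζ := Complex.isPrimitiveRoot_exp (2 ^ n) (pow_ne_zero _ two_ne_zero)
  set ψ : AddChar (ZMod (2 ^ n)) ℂ :=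
    AddChar.zmodChar (2 ^ n) ((IsPrimitiveRoot.iff_def _ _).mp hζ).left
  have hψ : ψ.IsPrimitive := AddChar.zmodChar_primitive_of_primitive_root (2 ^ n) hζ
  obtain ⟨C, Y, Z, U, a, b, c, ha, hb, hc, hC1, hY1, hZ1, hCY, hCZ, hYZ, hU, hUinj, hmem, htab, hreg⟩ :=
    exists_table h hn hM hψ
  set H := 2 ^ (n - 1) with hH
  have hH2 : 2 ≤ H := le_trans (by norm_num) (Nat.pow_le_pow_right (by norm_num) (by omega : 1 ≤ n - 1))
  have hHeven : Even H := ⟨2 ^ (n - 2), by rw [hH, ← two_mul, ← pow_succ']; congr 1; omega⟩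
  set z := x ^ ((2 : ℤ) ^ (n - 1)) with hz
  have hψh := apply_half hψ h
  have hψk : ∀ k : ℕ, ψ ((k : ZMod (2 ^ n)) * half n) = (-1) ^ k := fun k => by
    rw [← nsmul_eq_mul, AddChar.map_nsmul_eq_pow, hψh]
  have hψhh : ψ (half n * half n) = 1 := by
    have := hψk H
    rwa [hHeven.neg_one_pow] at this
  have hψkh : ∀ k : ℕ, ψ (-((k : ZMod (2 ^ n)) * half n)) = (-1) ^ k := fun k => by
    rw [← mul_neg, neg_half h, hψk]
  have hh0 := half_ne_zero h
  -- identify the character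
  have h10 : (1 : ZMod (2 ^ n)) ≠ 0 := by
    have := (natCast_eq_zero_iff' (n := n) h.one_le (k := 1) (by omega)).not.2 one_ne_zero
    rwa [Nat.cast_one] at this
  have h20 : ((2 : ℕ) : ZMod (2 ^ n)) ≠ 0 :=
    (natCast_eq_zero_iff' (n := n) h.one_le (k := 2) (by omega)).not.2 two_ne_zero
  have hnotYZ : ∀ (V : IrrCharacter G) (e : ℤ), (e = 1 ∨ e = -1) →
      (∀ μ : ZMod (2 ^ n), μ ≠ 0 → rotVal x V μ = e * ψ (half n * μ)) → χ ≠ V := by
    intro V e he hV hχV
    have e1 := (hV _ h10).symm.trans ((hχV ▸ hval _ h10) : rotVal x V (1 : ZMod (2 ^ n)) = δ)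
    have e2 := (hV _ h20).symm.trans ((hχV ▸ hval _ h20) : rotVal x V ((2 : ℕ) : ZMod (2 ^ n)) = δ)
    rw [mul_one, hψh] at e1
    rw [mul_comm (half n), hψk, neg_one_sq] at e2
    rw [← e1] at e2
    rcases he with rfl | rfl <;> norm_num at e2
  have hχC : χ = C := by
    rcases (hmem χ).1 hχ with e | e | e | e | ⟨k, hk1, hk, e⟩
    · exact absurd e hne
    · exact e
    · exact absurd e (hnotYZ Y b hb fun μ hμ => (htab μ hμ).2.1)
    · exact absurd e (hnotYZ Z c hc fun μ hμ => (htab μ hμ).2.2.1)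
    · exfalso
      have e1 := ((htab _ hh0).2.2.2 k hk1 hk).symm.trans
        ((e ▸ hval _ hh0) : rotVal x (U k) (half n) = δ)
      have e3 := ((htab _ h10).2.2.2 k hk1 hk).symm.trans
        ((e ▸ hval _ h10) : rotVal x (U k) (1 : ZMod (2 ^ n)) = δ)
      rw [hψk, hψkh] at e1
      have hk0 : (k : ZMod (2 ^ n)) ≠ 0 := fun e0 => by
        have := (natCast_eq_zero_iff' (n := n) h.one_le hk.le).1 e0
        omega
      have hne' : -(k : ZMod (2 ^ n)) ≠ 0 := neg_ne_zero.2 hk0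
      -- the column sums to `2 a`
      have e4 : ∑ μ ∈ (Finset.univ : Finset (ZMod (2 ^ n))).erase 0, rotVal x (U k) μ =
          (δ : ℂ) * ((2 : ℂ) ^ n - 1) := by
        rw [Finset.sum_congr rfl fun μ hμ => e ▸ hval μ (Finset.ne_of_mem_erase hμ), Finset.sum_const,
          Finset.card_erase_of_mem (Finset.mem_univ _), Finset.card_univ, ZMod.card, nsmul_eq_mul,
          Nat.cast_sub (Nat.one_le_two_pow)]
        push_cast
        ring
      have e5 : ∑ μ ∈ (Finset.univ : Finset (ZMod (2 ^ n))).erase 0, rotVal x (U k) μ = 2 * a := by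
        rw [Finset.sum_congr rfl fun μ hμ => (htab μ (Finset.ne_of_mem_erase hμ)).2.2.2 k hk1 hk,
          ← Finset.mul_sum, Finset.sum_erase_eq_sub (Finset.mem_univ _), Finset.sum_add_distrib,
          sum_char hψ, if_neg hk0]
        simp only [← neg_mul, sum_char hψ, if_neg hne', mul_zero, neg_zero, AddChar.map_zero_eq_one]
        ring
      have e6 : δ * ((2 : ℤ) ^ n - 1) = 2 * a := by
        have := e4.symm.trans e5
        exact_mod_cast this
      have e7 : (4 : ℤ) ≤ 2 ^ n := by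
        calc (4 : ℤ) = 2 ^ 2 := by norm_num
          _ ≤ 2 ^ n := pow_le_pow_right₀ (by norm_num) hn
      have e8 : δ = -a * 2 ∨ δ = a * 2 := by
        rcases neg_one_pow_eq_or ℂ k with e9 | e9 <;> rw [e9] at e1
        · left
          have e10 : ((-a * 2 : ℤ) : ℂ) = (δ : ℂ) := by push_cast; rw [← e1]; ring
          exact_mod_cast e10.symm
        · right
          have e10 : ((a * 2 : ℤ) : ℂ) = (δ : ℂ) := by push_cast; rw [← e1]; ring
          exact_mod_cast e10.symm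
      rcases e8 with e8 | e8 <;> rw [e8] at e6 <;> rcases ha with rfl | rfl <;> linarith
  subst hχC
  have hδ : δ = -a := by
    have := (hval _ hh0).symm.trans (htab _ hh0).1
    exact_mod_cast this
  subst hδ
  set d := charDegree (χ : G → ℂ) with hd
  have hd0 : 0 < d := Chars.charDegree_pos χ
  have hd1 : (χ : G → ℂ) 1 = (d : ℂ) := (Chars.coe_charDegree χ).symm
  have hUdeg : ∀ k, 1 ≤ k → k < H →
      (U k : G → ℂ) 1 = (d : ℂ) - a ∧ ((d : ℂ) - a ≠ 0) := by
    intro k hk1 hk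
    have h0 := (hreg 1 (by rw [orderOf_one]; norm_num)).2 k hk1 hk
    have e1 : (U k : G → ℂ) 1 = (d : ℂ) - a := by
      rw [hd1] at h0
      rcases ha with rfl | rfl <;> push_cast at h0 ⊢
      · linear_combination (-1 : ℂ) * h0
      · linear_combination h0
    exact ⟨e1, e1 ▸ Chars.map_one_ne_zero (U k)⟩
  have hda : ((d : ℂ) - a) ≠ 0 := (hUdeg 1 le_rfl (by omega)).2
  -- the weights
  have hWsum : ∀ (V : IrrCharacter G) (e : ℤ) (p : ZMod (2 ^ n)), p ≠ 0 →
      (∀ μ : ZMod (2 ^ n), μ ≠ 0 → rotVal x V μ = e * ψ (p * μ)) →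
      ∑ μ ∈ (Finset.univ : Finset (ZMod (2 ^ n))).erase 0, rotVal x V μ = -e := by
    intro V e p hp hV
    rw [Finset.sum_congr rfl fun μ hμ => hV μ (Finset.ne_of_mem_erase hμ), ← Finset.mul_sum,
      Finset.sum_erase_eq_sub (Finset.mem_univ _), sum_char hψ, if_neg hp, mul_zero,
      AddChar.map_zero_eq_one]
    ring
  have hWconst : ∀ (V : IrrCharacter G) (e : ℂ),
      (∀ μ : ZMod (2 ^ n), μ ≠ 0 → rotVal x V μ = e) → weight x n V = e := by
    intro V e hV
    rw [weight, Finset.sum_congr rfl fun μ hμ => hV μ (Finset.ne_of_mem_erase hμ), Finset.sum_const,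
      Finset.card_erase_of_mem (Finset.mem_univ _), Finset.card_univ, ZMod.card, nsmul_eq_mul,
      Nat.cast_sub Nat.one_le_two_pow, hV _ hh0]
    push_cast
    field_simp
    ring
  have hW1 : weight x n (Chars.oneChar G) = 1 :=
    hWconst _ 1 fun μ _ => Chars.oneChar_apply _
  have hWC : weight x n χ = -a := hWconst χ _ fun μ hμ => (htab μ hμ).1
  have hWY : weight x n Y = 0 := by
    rw [weight, hWsum Y b _ hh0 fun μ hμ => (htab μ hμ).2.1, (htab _ hh0).2.1, hψhh]
    ring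
  have hWZ : weight x n Z = 0 := by
    rw [weight, hWsum Z c _ hh0 fun μ hμ => (htab μ hμ).2.2.1, (htab _ hh0).2.2.1, hψhh]
    ring
  have hWU : ∀ k, 1 ≤ k → k < H →
      weight x n (U k) = ((2 : ℂ) ^ n)⁻¹ * (2 * a * (1 - (-1) ^ k)) ∧
        rotVal x (U k) (half n) ^ 2 = 4 := by
    intro k hk1 hk
    have hk0 : (k : ZMod (2 ^ n)) ≠ 0 := fun e0 => by
      have := (natCast_eq_zero_iff' (n := n) h.one_le hk.le).1 e0
      omega
    have eh := (htab _ hh0).2.2.2 k hk1 hk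
    rw [hψk, hψkh] at eh
    refine ⟨?_, ?_⟩
    · rw [weight, eh, Finset.sum_congr rfl fun μ hμ => (htab μ (Finset.ne_of_mem_erase hμ)).2.2.2 k hk1 hk,
        ← Finset.mul_sum, Finset.sum_erase_eq_sub (Finset.mem_univ _), Finset.sum_add_distrib,
        sum_char hψ, if_neg hk0]
      simp only [← neg_mul, sum_char hψ, if_neg (neg_ne_zero.2 hk0), mul_zero, neg_zero,
        AddChar.map_zero_eq_one]
      ring
    · rw [eh]
      rcases neg_one_pow_eq_or ℂ k with e9 | e9 <;> rcases ha with rfl | rfl <;> rw [e9] <;>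
        norm_num
  -- the block as an explicit finset
  have hB : B0 M = ({Chars.oneChar G, χ, Y, Z} : Finset (IrrCharacter G)) ∪ (Finset.Ico 1 H).image U := by
    ext φ
    rw [mem_B0, hmem]
    simp only [Finset.mem_union, Finset.mem_insert, Finset.mem_singleton, Finset.mem_image,
      Finset.mem_Ico]
    constructor
    · rintro (e | e | e | e | ⟨k, hk1, hk, e⟩)
      exacts [Or.inl (Or.inl e), Or.inl (Or.inr (Or.inl e)), Or.inl (Or.inr (Or.inr (Or.inl e))),
        Or.inl (Or.inr (Or.inr (Or.inr e))), Or.inr ⟨k, ⟨hk1, hk⟩, e.symm⟩]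
    · rintro ((e | e | e | e) | ⟨k, ⟨hk1, hk⟩, e⟩)
      exacts [Or.inl e, Or.inr (Or.inl e), Or.inr (Or.inr (Or.inl e)),
        Or.inr (Or.inr (Or.inr (Or.inl e))), Or.inr (Or.inr (Or.inr (Or.inr ⟨k, hk1, hk, e.symm⟩)))]
  have hdisj : Disjoint ({Chars.oneChar G, χ, Y, Z} : Finset (IrrCharacter G))
      ((Finset.Ico 1 H).image U) := by
    rw [Finset.disjoint_right]
    intro φ hφ
    obtain ⟨k, hk, rfl⟩ := Finset.mem_image.1 hφ
    rw [Finset.mem_Ico] at hk
    obtain ⟨h1, h2, h3, h4⟩ := hU k hk.1 hk.2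
    simp [h1, h2, h3, h4]
  have hrotz : ∀ V : IrrCharacter G, (V : G → ℂ) z = rotVal x V (half n) := fun V => by
    rw [rotVal, rot_half h]
  -- the cubic sum
  have hT : ∑ φ ∈ B0 M, weight x n φ * ((φ : G → ℂ) z * (φ : G → ℂ) z) / (φ : G → ℂ) 1 =
      1 + -(a : ℂ) / d + 4 * a / ((d : ℂ) - a) := by
    rw [hB, Finset.sum_union hdisj, Finset.sum_insert (by simp [hne.symm, hY1.symm, hZ1.symm]),
      Finset.sum_insert (by simp [hCY, hCZ]), Finset.sum_pair hYZ, hW1, hWC, hWY, hWZ,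
      Finset.sum_image (fun k hk l hl e => hUinj k l (Finset.mem_Ico.1 hk).1 (Finset.mem_Ico.1 hk).2
        (Finset.mem_Ico.1 hl).1 (Finset.mem_Ico.1 hl).2 e)]
    rw [Finset.sum_congr rfl (g := fun k : ℕ =>
      8 * (a : ℂ) / (2 ^ n * ((d : ℂ) - a)) * (1 - (-1) ^ k)) fun k hk => ?_]
    swap
    · obtain ⟨hk1, hk2⟩ := Finset.mem_Ico.1 hk
      rw [(hWU k hk1 hk2).1, hrotz, ← pow_two, (hWU k hk1 hk2).2, (hUdeg k hk1 hk2).1]
      field_simp
      ring
    have hs : ∑ k ∈ Finset.Ico 1 H, ((1 : ℂ) - (-1) ^ k) = H := by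
      have hr : ∑ k ∈ Finset.range H, ((1 : ℂ) - (-1) ^ k) = H := by
        rw [Finset.sum_sub_distrib, neg_one_geom_sum, if_pos hHeven, Finset.sum_const,
          Finset.card_range, nsmul_eq_mul, mul_one, sub_zero]
      rw [Finset.range_eq_Ico, Finset.sum_eq_sum_Ico_succ_bot (by omega : 0 < H), pow_zero, sub_self,
        zero_add] at hr
      exact hr
    rw [← Finset.mul_sum, hs, hrotz χ, (htab _ hh0).1, hd1, Chars.oneChar_apply, Chars.oneChar_apply]
    have h2n : (2 : ℂ) ^ n = 2 * (H : ℂ) := by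
      rw [hH]; push_cast; rw [← pow_succ']; congr 1; omega
    rw [h2n]
    have hH0 : (H : ℂ) ≠ 0 := Nat.cast_ne_zero.2 (by omega)
    have haa : (a : ℂ) * a = 1 := by rcases ha with rfl | rfl <;> norm_num
    rw [show -(a : ℂ) * (-(a : ℂ) * -(a : ℂ)) = -(a : ℂ) by linear_combination (-(a : ℂ)) * haa]
    field_simp
    ring
  -- evaluate the sum over the conjugates
  set N' := Nat.card (nbrs z) with hN'
  have hcount := card_partners h h.orderOf_z N' fun t ht => card_nbrs_conj (hone t ht)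
  have hL : ∑ g : G, ∑ φ ∈ B0 M, weight x n φ * (φ : G → ℂ) (z * (g * z * g⁻¹)) =
      (Nat.card G : ℂ) * (1 + -(a : ℂ) / d + 4 * a / ((d : ℂ) - a)) := by
    rw [← hT, Finset.sum_comm, Finset.mul_sum]
    refine Finset.sum_congr rfl fun φ _ => ?_
    rw [← Finset.mul_sum, Chars.sum_map_mul_conjugate φ z z]
    ring
  have hR : ∑ g : G, ∑ φ ∈ B0 M, weight x n φ * (φ : G → ℂ) (z * (g * z * g⁻¹)) =
      (Nat.card (Subgroup.centralizer ({z} : Set G)) : ℂ) * (2 * (N' : ℂ) * N') := by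
    rw [Cfsg.Agent.S0840.sum_conjugates z (fun v => ∑ φ ∈ B0 M, weight x n φ * (φ : G → ℂ) (z * v)),
      Finset.sum_congr rfl fun v _ => sum_weight h hM hone (z * v)]
    congr 1
    rw [Finset.sum_add_distrib, ← Finset.mul_sum, ← Finset.mul_sum, Finset.sum_boole,
      Finset.sum_boole, Finset.filter_filter, Finset.filter_filter, ← mul_add, mul_assoc 2,
      ← Nat.cast_mul, ← hcount, Nat.cast_add, Nat.card_eq_fintype_card, Nat.card_eq_fintype_card,
      Fintype.card_subtype, Fintype.card_subtype]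
    have hiff : ∀ v : G, IsConj z v ↔ orderOf v = 2 := fun v => ⟨fun hv => by
      obtain ⟨g, rfl⟩ := isConj_iff.1 hv
      exact (orderOf_injective (MulAut.conj g).toMonoidHom (MulAut.conj g).injective z).trans
        h.orderOf_z, hone v⟩
    simp only [hiff]
    congr!
  have hE := hL.symm.trans hR
  have haa : (a : ℂ) * a = 1 := by rcases ha with rfl | rfl <;> norm_num
  have hmain : (Nat.card G : ℂ) * ((d : ℂ) + a) ^ 2 =
      2 * (d : ℂ) * ((d : ℂ) - a) * (Nat.card (Subgroup.centralizer ({z} : Set G)) : ℂ) *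
        (N' : ℂ) ^ 2 := by
    have hd0' : (d : ℂ) ≠ 0 := Nat.cast_ne_zero.2 hd0.ne'
    field_simp at hE
    linear_combination hE + (Nat.card G : ℂ) * (0 : ℂ) * haa
  have hQ : (Nat.card G : ℚ) * ((d : ℚ) + a) ^ 2 =
      2 * (d : ℚ) * ((d : ℚ) - a) * (Nat.card (Subgroup.centralizer ({z} : Set G)) : ℚ) *
        (N' : ℚ) ^ 2 := by
    apply Rat.cast_injective (α := ℂ)
    push_cast
    exact hmain
  have hformula : (Nat.card G : ℚ) * ((d : ℚ) - (-a : ℤ)) ^ 2 =
      2 * (d : ℚ) * ((d : ℚ) + (-a : ℤ)) *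
        (Nat.card (Subgroup.centralizer ({z} : Set G)) : ℚ) ^ 3 *
        (1 / (Nat.card (Subgroup.centralizer ({z, y} : Set G)) : ℚ) +
          1 / (Nat.card (Subgroup.centralizer ({z, x * y} : Set G)) : ℚ)) ^ 2 := by
    push_cast
    rw [sub_neg_eq_add, ← sub_eq_add_neg, hQ, hN', card_nbrs_z h]
    ring
  refine ⟨fun e => ?_, hformula⟩
  have e1 : (d : ℚ) = ((-a : ℤ) : ℚ) := by rw [← e]; push_cast; rfl
  rw [e1, sub_self] at hformula
  have hpos : (0 : ℚ) < 1 / (Nat.card (Subgroup.centralizer ({z, y} : Set G)) : ℚ) +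
      1 / (Nat.card (Subgroup.centralizer ({z, x * y} : Set G)) : ℚ) :=
    add_pos (one_div_pos.2 (Nat.cast_pos.2 Nat.card_pos)) (one_div_pos.2 (Nat.cast_pos.2 Nat.card_pos))
  have hcz : (0 : ℚ) < (Nat.card (Subgroup.centralizer ({z} : Set G)) : ℚ) :=
    Nat.cast_pos.2 Nat.card_pos
  have hm : (1 : ℚ) ≤ ((-a : ℤ) : ℚ) := e1 ▸ (by exact_mod_cast hd0)
  have : (0 : ℚ) < 2 * ((-a : ℤ) : ℚ) * (((-a : ℤ) : ℚ) + ((-a : ℤ) : ℚ)) *
      (Nat.card (Subgroup.centralizer ({z} : Set G)) : ℚ) ^ 3 *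
      (1 / (Nat.card (Subgroup.centralizer ({z, y} : Set G)) : ℚ) +
          1 / (Nat.card (Subgroup.centralizer ({z, x * y} : Set G)) : ℚ)) ^ 2 := by positivity
  rw [zero_pow two_ne_zero, mul_zero] at hformula
  exact this.ne hformula

end CfsgLib.DihedralBlock
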