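import Mathlib

/-!
# The combinatorics of a column system of norms `2, …, 2, 3`

Integer vectors `w 1, …, w h` on a finite set, of norm `2` (the last one of norm `3`), with mutual
inner products `1` and inner product `1` with a positive vector of degrees: the supports form a
star.
-/

set_option autoImplicit false

namespace CfsgLib.DihedralBlock.Star

variable {ι : Type*}

theorem abs_eq_one_of_sum_sq {s : Finset ι} {f : ι → ℤ} {m : ℤ} (hm : ∑ p ∈ s, f p * f p = m)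
    (h3 : m ≤ 3) :
    (∀ p ∈ s, f p ≠ 0 → f p = 1 ∨ f p = -1) ∧ ((s.filter fun p => f p ≠ 0).card : ℤ) = m := by
  have hpm : ∀ p ∈ s, f p ≠ 0 → f p = 1 ∨ f p = -1 := by
    intro p hp h0
    have hle : f p * f p ≤ 3 := by
      refine le_trans ?_ (hm.le.trans h3)
      exact Finset.single_le_sum (f := fun q => f q * f q) (fun q _ => mul_self_nonneg _) hp
    have h1 : -1 ≤ f p := by nlinarith
    have h2 : f p ≤ 1 := by nlinarith
    omega
  refine ⟨hpm, ?_⟩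
  rw [← hm, Finset.card_filter]
  push_cast
  refine Finset.sum_congr rfl fun p hp => ?_
  by_cases h0 : f p = 0
  · simp [h0]
  · rw [if_pos h0]
    rcases hpm p hp h0 with h1 | h1 <;> rw [h1] <;> norm_num

variable [DecidableEq ι] {s : Finset ι} {f g : ι → ℤ}

/-- Supports meet in exactly one point, with equal signs. -/
theorem exists_common (hf : ∑ p ∈ s, f p * f p = 2) (hg : ∑ p ∈ s, g p * g p ≤ 3)
    (hfg : ∑ p ∈ s, f p * g p = 1) :
    ∃ p ∈ s, f p ≠ 0 ∧ g p = f p ∧ ∀ q ∈ s, f q ≠ 0 → g q ≠ 0 → q = p := by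
  obtain ⟨hfpm, hfcard⟩ := abs_eq_one_of_sum_sq hf (by norm_num)
  obtain ⟨hgpm, -⟩ := abs_eq_one_of_sum_sq rfl hg
  have hsum : ∑ p ∈ s.filter (fun p => f p ≠ 0 ∧ g p ≠ 0), f p * g p = 1 := by
    rw [Finset.sum_filter_of_ne, hfg]
    intro p _ hp
    exact mul_ne_zero_iff.1 hp
  have hcard : (s.filter fun p => f p ≠ 0 ∧ g p ≠ 0).card ≤ 2 := by
    have h2 : (s.filter fun p => f p ≠ 0).card = 2 := by exact_mod_cast hfcard
    rw [← h2]
    exact Finset.card_le_card fun p hp => Finset.mem_filter.2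
      ⟨(Finset.mem_filter.1 hp).1, (Finset.mem_filter.1 hp).2.1⟩
  interval_cases hc : (s.filter fun p => f p ≠ 0 ∧ g p ≠ 0).card
  · rw [Finset.card_eq_zero] at hc
    rw [hc, Finset.sum_empty] at hsum
    norm_num at hsum
  · obtain ⟨p, hp⟩ := Finset.card_eq_one.1 hc
    have hmem : p ∈ s.filter (fun p => f p ≠ 0 ∧ g p ≠ 0) := hp ▸ Finset.mem_singleton_self p
    obtain ⟨hps, hfp, hgp⟩ := Finset.mem_filter.1 hmem
    rw [hp, Finset.sum_singleton] at hsum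
    refine ⟨p, hps, hfp, ?_, fun q hq h1 h2 => ?_⟩
    · rcases hfpm p hps hfp with e | e <;> rw [e] at hsum ⊢ <;> linarith
    · have : q ∈ s.filter (fun p => f p ≠ 0 ∧ g p ≠ 0) := Finset.mem_filter.2 ⟨hq, h1, h2⟩
      rwa [hp, Finset.mem_singleton] at this
  · obtain ⟨p, q, hpq, hp⟩ := Finset.card_eq_two.1 hc
    have hm : ∀ r ∈ ({p, q} : Finset ι), r ∈ s ∧ f r ≠ 0 ∧ g r ≠ 0 := fun r hr => by
      rw [← hp] at hr
      exact Finset.mem_filter.1 hr
    rw [hp, Finset.sum_pair hpq] at hsum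
    obtain ⟨hps, hfp, hgp⟩ := hm p (by simp)
    obtain ⟨hqs, hfq, hgq⟩ := hm q (by simp)
    exfalso
    rcases hfpm p hps hfp with a | a <;> rcases hgpm p hps hgp with b | b <;>
      rcases hfpm q hqs hfq with c | c <;> rcases hgpm q hqs hgq with d | d <;>
      rw [a, b, c, d] at hsum <;> norm_num at hsum

/-- The other end of an edge. -/
theorem exists_other (hf : ∑ p ∈ s, f p * f p = 2) {C : ι} (hC : C ∈ s) (hfC : f C ≠ 0) :
    ∃ U ∈ s, U ≠ C ∧ f U ≠ 0 ∧ (∀ q ∈ s, f q ≠ 0 → q = C ∨ q = U) ∧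
      ∀ D : ι → ℤ, ∑ p ∈ s, f p * D p = f C * D C + f U * D U := by
  obtain ⟨-, hcard⟩ := abs_eq_one_of_sum_sq hf (by norm_num)
  have h2 : (s.filter fun p => f p ≠ 0).card = 2 := by exact_mod_cast hcard
  have hCm : C ∈ s.filter fun p => f p ≠ 0 := Finset.mem_filter.2 ⟨hC, hfC⟩
  obtain ⟨U, hU⟩ := Finset.card_eq_one.1 (show ((s.filter fun p => f p ≠ 0).erase C).card = 1 by
    rw [Finset.card_erase_of_mem hCm, h2])
  have hUm : U ∈ (s.filter fun p => f p ≠ 0).erase C := hU ▸ Finset.mem_singleton_self U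
  obtain ⟨hUC, hUm'⟩ := Finset.mem_erase.1 hUm
  have hall : ∀ q ∈ s, f q ≠ 0 → q = C ∨ q = U := fun q hq h0 => by
    by_cases hqC : q = C
    · exact Or.inl hqC
    · right
      have : q ∈ (s.filter fun p => f p ≠ 0).erase C :=
        Finset.mem_erase.2 ⟨hqC, Finset.mem_filter.2 ⟨hq, h0⟩⟩
      rwa [hU, Finset.mem_singleton] at this
  refine ⟨U, (Finset.mem_filter.1 hUm').1, hUC, (Finset.mem_filter.1 hUm').2, hall, fun D => ?_⟩
  rw [← Finset.sum_pair hUC.symm (f := fun p => f p * D p)]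
  symm
  refine Finset.sum_subset ?_ fun q hq hq' => ?_
  · intro q hq
    rw [Finset.mem_insert, Finset.mem_singleton] at hq
    rcases hq with rfl | rfl
    exacts [hC, (Finset.mem_filter.1 hUm').1]
  · by_contra h0
    apply hq'
    rw [Finset.mem_insert, Finset.mem_singleton]
    exact hall q hq (left_ne_zero_of_mul h0)

variable {w : ℕ → ι → ℤ} {deg : ι → ℤ} {h : ℕ}

/-- A common point of the edges and of the last vector. -/
theorem exists_centre (hh : h = 2 ∨ 4 ≤ h)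
    (hnorm : ∀ k, 1 ≤ k → k < h → ∑ p ∈ s, w k p * w k p = 2)
    (hlast : ∑ p ∈ s, w h p * w h p = 3)
    (hcross : ∀ k l, 1 ≤ k → k ≤ h → 1 ≤ l → l ≤ h → k ≠ l → ∑ p ∈ s, w k p * w l p = 1)
    (hdeg : ∀ k, 1 ≤ k → k ≤ h → ∑ p ∈ s, w k p * deg p = 1) :
    ∃ C ∈ s, w h C ≠ 0 ∧ ∀ k, 1 ≤ k → k < h → w k C = w h C := by
  have hmeet : ∀ k l, 1 ≤ k → k < h → 1 ≤ l → l ≤ h → k ≠ l →
      ∃ p ∈ s, w k p ≠ 0 ∧ w l p = w k p ∧ ∀ q ∈ s, w k q ≠ 0 → w l q ≠ 0 → q = p := by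
    intro k l hk1 hk hl1 hl hne
    refine exists_common (hnorm k hk1 hk) ?_ (hcross k l hk1 hk.le hl1 hl hne)
    rcases Nat.lt_or_ge l h with h' | h'
    · rw [hnorm l hl1 h']; norm_num
    · rw [show l = h by omega, hlast]
  rcases hh with hh | hh
  · obtain ⟨C, hC, h1, h2, -⟩ := hmeet 1 h le_rfl (by omega) (by omega) le_rfl (by omega)
    exact ⟨C, hC, h2 ▸ h1, fun k hk1 hk => by rw [show k = 1 by omega]; exact h2.symm⟩
  obtain ⟨C, hC, hC1, hC2, -⟩ := hmeet 1 2 le_rfl (by omega) (by norm_num) (by omega) (by norm_num)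
  obtain ⟨A, hA, hAC, hA1, hAall, hAsum⟩ := exists_other (hnorm 1 le_rfl (by omega)) hC hC1
  obtain ⟨B, hB, hBC, hB2, hBall, hBsum⟩ :=
    exists_other (hnorm 2 (by norm_num) (by omega)) hC (hC2 ▸ hC1)
  -- no triangle
  have hstar : ∀ k, 1 ≤ k → k < h → w k C = w 1 C := by
    intro k hk1 hk
    by_cases hk1' : k = 1
    · rw [hk1']
    by_cases hk2 : k = 2
    · rw [hk2, hC2]
    obtain ⟨p, hp, hp1, hp2, -⟩ := hmeet 1 k le_rfl (by omega) hk1 hk.le (Ne.symm hk1')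
    rcases hAall p hp hp1 with rfl | rfl
    · exact hp2
    · exfalso
      obtain ⟨q, hq, hq1, hq2, -⟩ := hmeet 2 k (by norm_num) (by omega) hk1 hk.le (Ne.symm hk2)
      rcases hBall q hq hq1 with rfl | rfl
      · obtain ⟨r, hr, hr1, hr2, hru⟩ := hmeet 1 k le_rfl (by omega) hk1 hk.le (Ne.symm hk1')
        exact hAC ((hru p hp hp1 (hp2 ▸ hp1)).trans
          (hru q hq hC1 (hq2 ▸ hq1)).symm)
      · have hpq : p ≠ q := by
          intro e
          obtain ⟨r, hr, -, -, hru⟩ :=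
            hmeet 1 2 le_rfl (by omega) (by norm_num) (by omega) (by norm_num)
          exact hAC ((hru p hp hA1 (e ▸ hB2)).trans (hru C hC hC1 (hC2 ▸ hC1)).symm)
        obtain ⟨U, hU, hUp, hUk, hUall, hUsum⟩ := exists_other (hnorm k hk1 hk) hp (hp2 ▸ hp1)
        have hqU : q = U := (hUall q hq (hq2 ▸ hq1)).resolve_left hpq.symm
        subst hqU
        have e1 := hdeg 1 le_rfl (by omega)
        have e2 := hdeg 2 (by norm_num) (by omega)
        have e3 := hdeg k hk1 hk.le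
        rw [hAsum] at e1
        rw [hBsum, hC2] at e2
        rw [hUsum, hp2, hq2] at e3
        omega
  have hC' : ∀ k, 1 ≤ k → k < h → w k C ≠ 0 := fun k hk1 hk => hstar k hk1 hk ▸ hC1
  by_cases hlastC : w h C = 0
  swap
  · refine ⟨C, hC, hlastC, fun k hk1 hk => ?_⟩
    obtain ⟨p, -, hp1, hp2, hpu⟩ := hmeet k h hk1 hk (by omega) le_rfl (by omega)
    rw [hpu C hC (hC' k hk1 hk) hlastC, hp2]
  -- the other ends would exhaust the last vector
  exfalso
  have hends : ∀ k, 1 ≤ k → k < h → ∃ a ∈ s, a ≠ C ∧ w h a ≠ 0 ∧ w k a = w h a ∧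
      w h a * deg a = 1 - w 1 C * deg C := by
    intro k hk1 hk
    obtain ⟨U, hU, hUC, hUk, hUall, hUsum⟩ := exists_other (hnorm k hk1 hk) hC (hC' k hk1 hk)
    obtain ⟨p, hp, hp1, hp2, -⟩ := hmeet k h hk1 hk (by omega) le_rfl (by omega)
    rcases hUall p hp hp1 with rfl | rfl
    · exact absurd (hp2.symm.trans hlastC) hp1
    · refine ⟨p, hp, hUC, hp2 ▸ hp1, hp2.symm, ?_⟩
      have e := hdeg k hk1 hk.le
      rw [hUsum, hstar k hk1 hk] at e
      rw [hp2]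
      linarith
  choose a ha haC hah hak had using hends
  let A' : Finset ι := (Finset.Ico 1 h).attach.image fun k =>
    a k.1 (Finset.mem_Ico.1 k.2).1 (Finset.mem_Ico.1 k.2).2
  have hAcard : A'.card = h - 1 := by
    rw [Finset.card_image_of_injective, Finset.card_attach, Nat.card_Ico]
    intro k l e
    by_contra hne
    obtain ⟨hk1, hk⟩ := Finset.mem_Ico.1 k.2
    obtain ⟨hl1, hl⟩ := Finset.mem_Ico.1 l.2
    obtain ⟨p, -, -, -, hpu⟩ := hmeet k.1 l.1 hk1 hk hl1 hl.le (fun e' => hne (Subtype.ext e'))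
    have e' : a k.1 hk1 hk = a l.1 hl1 hl := e
    refine haC k.1 hk1 hk ((hpu _ (ha k.1 hk1 hk) (hak k.1 hk1 hk ▸ hah k.1 hk1 hk) ?_).trans
      (hpu C hC (hC' _ hk1 hk) (hC' _ hl1 hl)).symm)
    rw [e', hak l.1 hl1 hl]
    exact hah l.1 hl1 hl
  have hWcard : (s.filter fun p => w h p ≠ 0).card = 3 := by
    exact_mod_cast (abs_eq_one_of_sum_sq hlast le_rfl).2
  have hsub : A' ⊆ s.filter fun p => w h p ≠ 0 := by
    intro p hp
    obtain ⟨k, -, rfl⟩ := Finset.mem_image.1 hp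
    exact Finset.mem_filter.2 ⟨ha _ _ _, hah _ _ _⟩
  have hle := Finset.card_le_card hsub
  rw [hAcard, hWcard] at hle
  have heq := Finset.eq_of_subset_of_card_le hsub (by omega)
  have hd := hdeg h (by omega) le_rfl
  rw [← Finset.sum_subset (Finset.filter_subset (fun p => w h p ≠ 0) s) (fun p hp hp' => by
      rw [show w h p = 0 by by_contra h0; exact hp' (Finset.mem_filter.2 ⟨hp, h0⟩), zero_mul]),
    ← heq] at hd
  have hsum : ∑ p ∈ A', w h p * deg p = (A'.card : ℤ) * (1 - w 1 C * deg C) := by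
    rw [← nsmul_eq_mul]
    refine Finset.sum_eq_card_nsmul fun p hp => ?_
    obtain ⟨k, -, rfl⟩ := Finset.mem_image.1 hp
    exact had _ _ _
  rw [hsum, hAcard, show h - 1 = 3 by omega] at hd
  omega

/-- The supports of the vectors. -/
theorem exists_star (hh : h = 2 ∨ 4 ≤ h) (hpos : ∀ p ∈ s, 0 < deg p)
    (hnorm : ∀ k, 1 ≤ k → k < h → ∑ p ∈ s, w k p * w k p = 2)
    (hlast : ∑ p ∈ s, w h p * w h p = 3)
    (hcross : ∀ k l, 1 ≤ k → k ≤ h → 1 ≤ l → l ≤ h → k ≠ l → ∑ p ∈ s, w k p * w l p = 1)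
    (hdeg : ∀ k, 1 ≤ k → k ≤ h → ∑ p ∈ s, w k p * deg p = 1) :
    ∃ (C Y Z : ι) (U : ℕ → ι) (a b c : ℤ), (a = 1 ∨ a = -1) ∧ (b = 1 ∨ b = -1) ∧
      (c = 1 ∨ c = -1) ∧ C ∈ s ∧ Y ∈ s ∧ Z ∈ s ∧ C ≠ Y ∧ C ≠ Z ∧ Y ≠ Z ∧
      (∀ k, 1 ≤ k → k < h → U k ∈ s ∧ U k ≠ C ∧ U k ≠ Y ∧ U k ≠ Z) ∧
      (∀ k l, 1 ≤ k → k < h → 1 ≤ l → l < h → U k = U l → k = l) ∧
      (∀ p ∈ s, w h p = if p = C then a else if p = Y then b else if p = Z then c else 0) ∧
      ∀ k, 1 ≤ k → k < h → ∀ p ∈ s, w k p = if p = C then a else if p = U k then -a else 0 := by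
  obtain ⟨C, hC, hC0, hCk⟩ := exists_centre hh hnorm hlast hcross hdeg
  obtain ⟨hWpm, hWcard⟩ := abs_eq_one_of_sum_sq hlast le_rfl
  have hW : ((s.filter fun p => w h p ≠ 0).erase C).card = 2 := by
    rw [Finset.card_erase_of_mem (Finset.mem_filter.2 ⟨hC, hC0⟩)]
    have : (s.filter fun p => w h p ≠ 0).card = 3 := by exact_mod_cast hWcard
    omega
  obtain ⟨Y, Z, hYZ, hWe⟩ := Finset.card_eq_two.1 hW
  have hmem : ∀ p, p = Y ∨ p = Z → p ≠ C ∧ p ∈ s ∧ w h p ≠ 0 := fun p hp => by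
    have : p ∈ (s.filter fun q => w h q ≠ 0).erase C := by
      rw [hWe, Finset.mem_insert, Finset.mem_singleton]; exact hp
    rw [Finset.mem_erase, Finset.mem_filter] at this
    exact this
  obtain ⟨hYC, hY, hY0⟩ := hmem Y (Or.inl rfl)
  obtain ⟨hZC, hZ, hZ0⟩ := hmem Z (Or.inr rfl)
  have hedge : ∀ k, 1 ≤ k → k < h → ∃ U ∈ s, U ≠ C ∧ w h U = 0 ∧ w k U = -w h C ∧
      ∀ q ∈ s, w k q ≠ 0 → q = C ∨ q = U := by
    intro k hk1 hk
    have hkC : w k C ≠ 0 := hCk k hk1 hk ▸ hC0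
    obtain ⟨U, hU, hUC, hUk, hUall, hUsum⟩ := exists_other (hnorm k hk1 hk) hC hkC
    refine ⟨U, hU, hUC, ?_, ?_, hUall⟩
    · by_contra hUh
      obtain ⟨p, -, -, -, hpu⟩ := exists_common (hnorm k hk1 hk) hlast.le
        (hcross k h hk1 hk.le (by omega) le_rfl (by omega))
      exact hUC ((hpu U hU hUk hUh).trans (hpu C hC hkC hC0).symm)
    · have e := hdeg k hk1 hk.le
      rw [hUsum, hCk k hk1 hk] at e
      have h1 := hpos C hC
      have h2 := hpos U hU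
      rcases hWpm C hC hC0 with a | a <;>
        rcases (abs_eq_one_of_sum_sq (hnorm k hk1 hk) (by norm_num)).1 U hU hUk with b | b <;>
        rw [a, b] at e <;> rw [a, b] <;> omega
  haveI : Nonempty ι := ⟨C⟩
  choose! U hU hUC hUh hUk hUall using hedge
  refine ⟨C, Y, Z, U, w h C, w h Y, w h Z, hWpm C hC hC0, hWpm Y hY hY0, hWpm Z hZ hZ0, hC, hY, hZ,
    hYC.symm, hZC.symm, hYZ, fun k hk1 hk => ⟨hU k hk1 hk, hUC k hk1 hk,
      fun e => hY0 (e ▸ hUh k hk1 hk), fun e => hZ0 (e ▸ hUh k hk1 hk)⟩, ?_, ?_, ?_⟩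
  · intro k l hk1 hk hl1 hl e
    by_contra hne
    obtain ⟨p, -, -, -, hpu⟩ := exists_common (hnorm k hk1 hk)
      (by rw [hnorm l hl1 hl]; norm_num) (hcross k l hk1 hk.le hl1 hl.le hne)
    refine hUC k hk1 hk ((hpu _ (hU k hk1 hk) ?_ ?_).trans (hpu C hC ?_ ?_).symm)
    · rw [hUk k hk1 hk]; exact neg_ne_zero.2 hC0
    · rw [e, hUk l hl1 hl]; exact neg_ne_zero.2 hC0
    · rw [hCk k hk1 hk]; exact hC0
    · rw [hCk l hl1 hl]; exact hC0
  · intro p hp
    split_ifs with h1 h2 h3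
    · rw [h1]
    · rw [h2]
    · rw [h3]
    · by_contra h0
      have : p ∈ (s.filter fun q => w h q ≠ 0).erase C :=
        Finset.mem_erase.2 ⟨h1, Finset.mem_filter.2 ⟨hp, h0⟩⟩
      rw [hWe, Finset.mem_insert, Finset.mem_singleton] at this
      exact this.elim h2 h3
  · intro k hk1 hk p hp
    split_ifs with h1 h2
    · rw [h1, hCk k hk1 hk]
    · rw [h2, hUk k hk1 hk]
    · by_contra h0
      exact (hUall k hk1 hk p hp h0).elim h1 h2

end CfsgLib.DihedralBlock.Star
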