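import Cfsg.Agent.Eq.Def_Blocks
import Cfsg.Agent.DihedralBlock.Local
import Cfsg.Agent.DihedralBlock.Star
import Cfsg.Agent.ZStar.Quaternion
import Cfsg.Agent.Blocks.Orth.Blocks
import Cfsg.Agent.Blocks.Basic.Principal
import Cfsg.Agent.S0914
import Cfsg.Agent.S0928
import Cfsg.Agent.S0944
import Cfsg.Agent.S0947

/-!
# The principal 2-block with a dihedral Sylow 2-subgroup

* `gram`: the columns at the non-trivial rotations;
* `coef`: their Fourier coefficients, integral, with Gram matrix `2 + [i = j] + [i = -j]`;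
* `exists_table`: the labelling of the block.
-/

set_option autoImplicit false
set_option linter.style.haveILetI false

namespace CfsgLib.DihedralBlock

open Cfsg CfsgLib.Blocks CfsgLib.FusionTwo

universe u v

variable {G : Type u} [Group G]

/-- The rotation with exponent `a`. -/
def rot (x : G) {n : ℕ} (a : ZMod (2 ^ n)) : G := x ^ (a.val : ℤ)

/-- The class of the central involution among the exponents. -/
def half (n : ℕ) : ZMod (2 ^ n) := ((2 ^ (n - 1) : ℕ) : ZMod (2 ^ n))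

section Rot

variable {S : Sylow 2 G} {n : ℕ} {x y : G}

theorem rot_intCast (h : IsDihGen (S : Subgroup G) n x y) (i : ℤ) :
    rot x (i : ZMod (2 ^ n)) = x ^ i := by
  have e : ((2 ^ n : ℕ) : ℤ) = 2 ^ n := by push_cast; ring
  rw [rot, h.zpow_eq_iff, ← e, ← ZMod.intCast_eq_intCast_iff_dvd_sub]
  push_cast
  exact (ZMod.natCast_zmod_val _).symm

theorem exists_intCast (a : ZMod (2 ^ n)) : ∃ i : ℤ, a = (i : ZMod (2 ^ n)) :=
  ⟨(a.val : ℤ), by push_cast; exact (ZMod.natCast_zmod_val a).symm⟩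

theorem rot_add (h : IsDihGen (S : Subgroup G) n x y) (a b : ZMod (2 ^ n)) :
    rot x (a + b) = rot x a * rot x b := by
  obtain ⟨i, rfl⟩ := exists_intCast a
  obtain ⟨j, rfl⟩ := exists_intCast b
  rw [rot_intCast h, rot_intCast h, ← zpow_add, ← rot_intCast h]
  push_cast
  rfl

theorem rot_zero : rot x (0 : ZMod (2 ^ n)) = 1 := by simp [rot]

theorem rot_neg (h : IsDihGen (S : Subgroup G) n x y) (a : ZMod (2 ^ n)) :
    rot x (-a) = (rot x a)⁻¹ := by
  rw [eq_inv_iff_mul_eq_one, ← rot_add h, neg_add_cancel, rot_zero]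

theorem rot_inj (h : IsDihGen (S : Subgroup G) n x y) {a b : ZMod (2 ^ n)} :
    rot x a = rot x b ↔ a = b := by
  refine ⟨fun e => ?_, fun e => by rw [e]⟩
  obtain ⟨i, rfl⟩ := exists_intCast a
  obtain ⟨j, rfl⟩ := exists_intCast b
  rw [rot_intCast h, rot_intCast h, h.zpow_eq_iff] at e
  have e' : ((2 ^ n : ℕ) : ℤ) ∣ i - j := by push_cast; exact e
  exact ((ZMod.intCast_eq_intCast_iff_dvd_sub j i (2 ^ n)).2 e').symm

theorem rot_eq_one (h : IsDihGen (S : Subgroup G) n x y) {a : ZMod (2 ^ n)} :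
    rot x a = 1 ↔ a = 0 := by rw [← rot_zero (x := x) (n := n), rot_inj h]

theorem rot_half (h : IsDihGen (S : Subgroup G) n x y) :
    rot x (half n) = x ^ ((2 : ℤ) ^ (n - 1)) := by
  rw [← rot_intCast h, half]
  push_cast
  rfl

theorem half_ne_zero (h : IsDihGen (S : Subgroup G) n x y) : half n ≠ 0 := fun e => by
  have h1 := h.orderOf_z
  rw [← rot_half h, e, rot_zero, orderOf_one] at h1
  omega

theorem neg_half (h : IsDihGen (S : Subgroup G) n x y) : -half n = half n := by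
  rw [← rot_inj h, rot_neg h, rot_half h]
  refine inv_eq_of_mul_eq_one_left ?_
  rw [← pow_two, ← h.orderOf_z, pow_orderOf_eq_one]

theorem sq_ne_one (h : IsDihGen (S : Subgroup G) n x y) {a : ZMod (2 ^ n)} (ha : a ≠ 0)
    (ha' : a ≠ half n) : rot x a * rot x a ≠ 1 := fun e => by
  rcases h.zpow_of_mul_self e with e' | e'
  · exact ha ((rot_eq_one h).1 e')
  · exact ha' ((rot_inj h).1 (e'.trans (rot_half h).symm))

theorem neg_ne_self (h : IsDihGen (S : Subgroup G) n x y) {a : ZMod (2 ^ n)} (ha : a ≠ 0)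
    (ha' : a ≠ half n) : -a ≠ a := fun e => by
  refine sq_ne_one h ha ha' ?_
  rw [← rot_add h]
  rw [show a + a = 0 by nth_rw 1 [← e]; exact neg_add_cancel a, rot_zero]

theorem isConj_rot_neg (h : IsDihGen (S : Subgroup G) n x y) (a : ZMod (2 ^ n)) :
    IsConj (rot x a) (rot x (-a)) := by
  refine isConj_iff.2 ⟨y, ?_⟩
  rw [rot_neg h, rot, ← conj_zpow, h.rel, inv_zpow]

theorem orderOf_rot (h : IsDihGen (S : Subgroup G) n x y) (a : ZMod (2 ^ n)) :
    ∃ k, orderOf (rot x a) = 2 ^ k := by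
  obtain ⟨k, -, hk⟩ := (Nat.dvd_prime_pow Nat.prime_two).1
    (orderOf_dvd_of_pow_eq_one (x := rot x a) (n := 2 ^ n) (by
      rw [rot, ← zpow_natCast, ← zpow_mul, h.zpow_eq_one_iff]
      exact ⟨(a.val : ℤ), by push_cast; ring⟩))
  exact ⟨k, hk⟩

theorem two_dvd_orderOf_rot (h : IsDihGen (S : Subgroup G) n x y) {a : ZMod (2 ^ n)} (ha : a ≠ 0) :
    2 ∣ orderOf (rot x a) := by
  obtain ⟨k, hk⟩ := orderOf_rot h a
  rw [hk]
  refine dvd_pow_self 2 fun h0 => ha ((rot_eq_one h).1 ?_)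
  rw [← orderOf_eq_one_iff, hk, h0, pow_zero]

theorem isConj_rot [Finite G] (h : IsDihGen (S : Subgroup G) n x y) {a b : ZMod (2 ^ n)}
    (ha : a ≠ 0) (hb : b ≠ 0) (hc : IsConj (rot x a) (rot x b)) : b = a ∨ b = -a := by
  obtain ⟨g, hg⟩ := isConj_iff.1 hc
  by_cases hah : a = half n
  · left
    have hb2 : rot x b * rot x b = 1 := by
      rw [← hg, hah, rot_half h]
      rw [show g * x ^ (2 : ℤ) ^ (n - 1) * g⁻¹ * (g * x ^ (2 : ℤ) ^ (n - 1) * g⁻¹) =
        g * (x ^ (2 : ℤ) ^ (n - 1)) ^ 2 * g⁻¹ by rw [pow_two]; group]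
      rw [← h.orderOf_z, pow_orderOf_eq_one, mul_one, mul_inv_cancel]
    by_contra hne
    exact sq_ne_one h hb (fun e => hne (e.trans hah.symm)) hb2
  · rcases conj_rot h (sq_ne_one h ha hah) hg with e | e
    · exact Or.inl ((rot_inj h).1 e)
    · exact Or.inr ((rot_inj h).1 (e.trans (rot_neg h a).symm))

end Rot

/-- The members of the principal block. -/
noncomputable def B0 [Finite G] (M : Ideal AlgInt) : Finset (IrrCharacter G) :=
  (principalBlock M G).toFinite.toFinset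

theorem mem_B0 [Finite G] {M : Ideal AlgInt} {χ : IrrCharacter G} :
    χ ∈ B0 M ↔ χ ∈ principalBlock M G := Set.Finite.mem_toFinset _

theorem oneChar_mem_B0 [Finite G] {M : Ideal AlgInt} (hM : IsPModular 2 M) :
    Chars.oneChar G ∈ B0 M := by
  haveI := isMaximal_of_isPModular hM
  exact mem_B0.2 ZStar.oneChar_mem_principal

variable [Finite G] {S : Sylow 2 G} {n : ℕ} {x y : G} {M : Ideal AlgInt}

/-- The value at a rotation. -/
def rotVal (x : G) {n : ℕ} (χ : IrrCharacter G) (a : ZMod (2 ^ n)) : ℂ := (χ : G → ℂ) (rot x a)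

theorem rotVal_neg (h : IsDihGen (S : Subgroup G) n x y) (χ : IrrCharacter G) (a : ZMod (2 ^ n)) :
    rotVal x χ (-a) = rotVal x χ a :=
  (Chars.eq_of_isConj (Chars.isClassFunction_coe χ) (isConj_rot_neg h a)).symm

theorem conj_rotVal (h : IsDihGen (S : Subgroup G) n x y) (χ : IrrCharacter G) (a : ZMod (2 ^ n)) :
    starRingEnd ℂ (rotVal x χ a) = rotVal x χ a := by
  rw [rotVal, ← Chars.map_inv_eq_conj (Chars.isCharacter_coe χ), ← rot_neg h]
  exact rotVal_neg h χ a

theorem sum_rotVal_sq (h : IsDihGen (S : Subgroup G) n x y) (hM : IsPModular 2 M)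
    {a : ZMod (2 ^ n)} (ha : a ≠ 0) {e : ℕ}
    (hnpc : HasNormalPComplement 2 (Subgroup.centralizer ({rot x a} : Set G)))
    (he : (Nat.card (Subgroup.centralizer ({rot x a} : Set G))).factorization 2 = e) :
    ∑ χ ∈ B0 M, rotVal x χ a * rotVal x χ a = (2 : ℂ) ^ e := by
  haveI : Fact (Nat.Prime 2) := ⟨Nat.prime_two⟩
  have h0 := (Cfsg.Agent.S0947.result 2 M hM (rot x a) (orderOf_rot h a)
    (fun e => ha ((rot_eq_one h).1 e)) 1 (by rw [orderOf_one]; norm_num)).2
      ⟨_, index_pPrimeCore hnpc⟩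
  rw [he, finsum_block_eq_sum] at h0
  simp only [OneMemClass.coe_one, mul_one] at h0
  have h1 : ∑ χ ∈ B0 M, ((‖rotVal x χ a‖ ^ 2 : ℝ) : ℂ) = (2 : ℂ) ^ e := by
    rw [← Complex.ofReal_sum]
    simp only [rotVal, B0]
    rw [h0]
    push_cast
    rfl
  rw [← h1]
  refine Finset.sum_congr rfl fun χ _ => ?_
  rw [← Complex.normSq_eq_norm_sq, ← Complex.mul_conj, conj_rotVal h]

/-- The Gram matrix of the columns at the rotations. -/
theorem gram (h : IsDihGen (S : Subgroup G) n x y) (hM : IsPModular 2 M)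
    {a b : ZMod (2 ^ n)} (ha : a ≠ 0) (hb : b ≠ 0) :
    ∑ χ ∈ B0 M, rotVal x χ a * rotVal x χ b =
      2 ^ n * ((if b = a then 1 else 0) + (if b = -a then 1 else 0)) := by
  have hdiag : ∑ χ ∈ B0 M, rotVal x χ a * rotVal x χ a =
      2 ^ n * (1 + (if a = half n then 1 else 0)) := by
    by_cases hah : a = half n
    · rw [if_pos hah, sum_rotVal_sq h hM ha (e := n + 1)]
      · rw [pow_succ]; ring
      · rw [hah, rot_half h]; exact npc_z h
      · rw [hah, rot_half h]; exact factorization_z h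
    · rw [if_neg hah, add_zero, mul_one]
      exact sum_rotVal_sq h hM ha (npc_rot h (sq_ne_one h ha hah))
        (factorization_rot h (sq_ne_one h ha hah))
  by_cases hba : b = a
  · subst hba
    rw [hdiag, if_pos rfl]
    by_cases hah : b = half n
    · rw [if_pos hah, if_pos (by rw [hah, neg_half h])]
    · rw [if_neg hah, if_neg (neg_ne_self h hb hah).symm]
  by_cases hbn : b = -a
  · subst hbn
    have hah : a ≠ half n := fun e => hba (by rw [e, neg_half h])
    rw [if_neg hba, if_pos rfl, zero_add, mul_one]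
    rw [if_neg hah, add_zero, mul_one] at hdiag
    rw [← hdiag]
    exact Finset.sum_congr rfl fun χ _ => by rw [rotVal_neg h]
  rw [if_neg hba, if_neg hbn, add_zero, mul_zero]
  haveI := isMaximal_of_isPModular hM
  haveI := Fintype.ofFinite G
  have hpp : ∀ c : ZMod (2 ^ n), IsPPart 2 (rot x c) (rot x c) := fun c =>
    ⟨1, mul_one _, Commute.one_right _, orderOf_rot h c, by rw [orderOf_one]; norm_num⟩
  have h0 := finsum_block_mul_conj_eq_zero_of_pPart hM (isPBlock_principalBlock (M := M) (G := G))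
    (hpp a) (hpp b) (fun hc => by
      rcases isConj_rot h hb ha hc with e | e
      · exact hba e.symm
      · exact hbn (by rw [e, neg_neg]))
  rw [finsum_block_eq_sum] at h0
  rw [← h0]
  refine Finset.sum_congr rfl fun χ _ => ?_
  have hb' := conj_rotVal h χ b
  rw [rotVal] at hb'
  rw [rotVal, rotVal, hb']

/-- Columns at rotations are orthogonal to the 2-regular columns. -/
theorem sum_rotVal_regular (h : IsDihGen (S : Subgroup G) n x y) (hM : IsPModular 2 M)
    {a : ZMod (2 ^ n)} (ha : a ≠ 0) {r : G} (hr : ¬ 2 ∣ orderOf r) :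
    ∑ χ ∈ B0 M, rotVal x χ a * (χ : G → ℂ) r = 0 := by
  haveI := isMaximal_of_isPModular hM
  haveI := Fintype.ofFinite G
  have h0 := finsum_block_regular_mul_conj_singular hM (isPBlock_principalBlock (M := M) (G := G))
    (x := r) (y := rot x a) hr (two_dvd_orderOf_rot h ha)
  rw [finsum_block_eq_sum] at h0
  rw [← h0]
  refine Finset.sum_congr rfl fun χ _ => ?_
  have := conj_rotVal h χ a
  rw [rotVal] at this
  rw [rotVal, this, mul_comm]

theorem exists_nat_sum_hom_mul' {H : Type v} [Group H] [Fintype H] (f : H →* G) {χ : G → ℂ}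
    (hχ : IsCharacter G χ) (ν : H →* ℂˣ) :
    ∃ m : ℕ, ∑ h : H, (ν h : ℂ) * χ (f h) = (Nat.card H : ℂ) * m := by
  obtain ⟨k, ρ, rfl⟩ := hχ
  obtain ⟨m, hm⟩ := Chars.exists_nat_classInner
    (χ := (Chars.twistRep (ρ.comp f) ν).character) ⟨k, _, rfl⟩ (Chars.oneChar H)
  refine ⟨m, ?_⟩
  rw [← hm, classInner, ← mul_assoc, mul_inv_cancel₀ Chars.natCard_ne_zero, one_mul]
  refine Finset.sum_congr rfl fun h _ => ?_
  rw [Chars.twistRep_character, Chars.oneChar_apply, map_one, mul_one]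
  rfl

/-- The Fourier coefficient of the column system. -/
noncomputable def coef (x : G) (ψ : AddChar (ZMod (2 ^ n)) ℂ) (χ : IrrCharacter G)
    (j : ZMod (2 ^ n)) : ℂ :=
  ((2 : ℂ) ^ n)⁻¹ * ∑ a : ZMod (2 ^ n), rotVal x χ a * (ψ (-(j * a)) - 1)

variable {ψ : AddChar (ZMod (2 ^ n)) ℂ}

theorem exists_int_coef (h : IsDihGen (S : Subgroup G) n x y) (χ : IrrCharacter G)
    (j : ZMod (2 ^ n)) : ∃ m : ℤ, coef x ψ χ j = m := by
  let f : Multiplicative (ZMod (2 ^ n)) →* G :=
    { toFun := fun a => rot x a.toAdd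
      map_one' := rot_zero
      map_mul' := fun a b => rot_add h a.toAdd b.toAdd }
  let ν : Multiplicative (ZMod (2 ^ n)) →* ℂˣ := MonoidHom.toHomUnits
    { toFun := fun a => ψ (-(j * a.toAdd))
      map_one' := by simp
      map_mul' := fun a b => by
        rw [← AddChar.map_add_eq_mul, toAdd_mul, mul_add, neg_add] }
  obtain ⟨p, hp⟩ := exists_nat_sum_hom_mul' f (Chars.isCharacter_coe χ) ν
  obtain ⟨q, hq⟩ := exists_nat_sum_hom_mul' f (Chars.isCharacter_coe χ) 1
  refine ⟨(p : ℤ) - q, ?_⟩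
  have hcard : (Nat.card (Multiplicative (ZMod (2 ^ n))) : ℂ) = (2 : ℂ) ^ n := by
    rw [Nat.card_congr Multiplicative.toAdd, Nat.card_zmod]; push_cast; rfl
  rw [hcard] at hp hq
  have e : ∑ a : ZMod (2 ^ n), rotVal x χ a * (ψ (-(j * a)) - 1) = 2 ^ n * p - 2 ^ n * q := by
    rw [← hp, ← hq, ← Finset.sum_sub_distrib]
    refine (Fintype.sum_equiv Multiplicative.toAdd _ _ fun a => ?_).symm
    simp [f, ν, rotVal, MonoidHom.toHomUnits]
    ring
  rw [coef, e]
  push_cast
  field_simp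

theorem coef_neg (h : IsDihGen (S : Subgroup G) n x y) (χ : IrrCharacter G) (j : ZMod (2 ^ n)) :
    coef x ψ χ (-j) = coef x ψ χ j := by
  rw [coef, coef]
  congr 1
  refine Fintype.sum_equiv (Equiv.neg _) _ _ fun a => ?_
  rw [Equiv.neg_apply, rotVal_neg h, neg_mul, mul_neg]

theorem sum_char (hψ : ψ.IsPrimitive) (c : ZMod (2 ^ n)) :
    ∑ a : ZMod (2 ^ n), ψ (c * a) = if c = 0 then (2 : ℂ) ^ n else 0 := by
  simp only [mul_comm c]
  rw [AddChar.sum_mulShift c hψ, ZMod.card]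
  split_ifs <;> simp

theorem coef_one (hψ : ψ.IsPrimitive) {j : ZMod (2 ^ n)} (hj : j ≠ 0) :
    coef x ψ (Chars.oneChar G) j = -1 := by
  simp only [coef, rotVal, Chars.oneChar_apply, one_mul, ← neg_mul]
  rw [Finset.sum_sub_distrib, sum_char hψ, if_neg (neg_ne_zero.2 hj), Finset.sum_const,
    Finset.card_univ, ZMod.card]
  push_cast
  field_simp
  simp

/-- The Gram matrix of the coefficients. -/
theorem gram_coef (h : IsDihGen (S : Subgroup G) n x y) (hM : IsPModular 2 M)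
    (hψ : ψ.IsPrimitive) {i j : ZMod (2 ^ n)} (hi : i ≠ 0) (hj : j ≠ 0) :
    ∑ χ ∈ B0 M, coef x ψ χ i * coef x ψ χ j =
      2 + (if i = j then 1 else 0) + (if i = -j then 1 else 0) := by
  set F : ZMod (2 ^ n) → ℂ := fun a => ψ (-(i * a)) - 1 with hF
  set H : ZMod (2 ^ n) → ℂ := fun a => ψ (-(j * a)) - 1 with hH
  have hF0 : F 0 = 0 := by simp [hF]
  have hH0 : H 0 = 0 := by simp [hH]
  have step : ∀ a b : ZMod (2 ^ n), (∑ χ ∈ B0 M, rotVal x χ a * rotVal x χ b) * (F a * H b) =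
      2 ^ n * ((if b = a then F a * H b else 0) + (if b = -a then F a * H b else 0)) := by
    intro a b
    by_cases ha : a = 0
    · subst ha; simp [hF0]
    by_cases hb : b = 0
    · subst hb; simp [hH0]
    rw [gram h hM ha hb]
    split_ifs <;> ring
  have e : ∑ χ ∈ B0 M, coef x ψ χ i * coef x ψ χ j =
      ((2 : ℂ) ^ n)⁻¹ * ((2 : ℂ) ^ n)⁻¹ * ∑ a, ∑ b,
        (∑ χ ∈ B0 M, rotVal x χ a * rotVal x χ b) * (F a * H b) := by
    have e1 : ∀ χ : IrrCharacter G, coef x ψ χ i * coef x ψ χ j =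
        ((2 : ℂ) ^ n)⁻¹ * ((2 : ℂ) ^ n)⁻¹ *
          ∑ a, ∑ b, rotVal x χ a * rotVal x χ b * (F a * H b) := by
      intro χ
      simp only [coef]
      rw [mul_mul_mul_comm, Finset.sum_mul_sum]
      congr 1
      exact Finset.sum_congr rfl fun a _ => Finset.sum_congr rfl fun b _ => by
        simp only [hF, hH]; ring
    simp only [e1, ← Finset.mul_sum]
    congr 1
    rw [Finset.sum_comm]
    refine Finset.sum_congr rfl fun a _ => ?_
    rw [Finset.sum_comm]
    exact Finset.sum_congr rfl fun b _ => (Finset.sum_mul _ _ _).symm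
  rw [e]
  simp only [step, ← Finset.mul_sum, Finset.sum_add_distrib, Finset.sum_ite_eq', Finset.mem_univ,
    if_true]
  have expand : ∀ c d : ZMod (2 ^ n), c ≠ 0 → d ≠ 0 →
      ∑ a : ZMod (2 ^ n), (ψ (c * a) - 1) * (ψ (d * a) - 1) =
        2 ^ n * (1 + if c + d = 0 then 1 else 0) := by
    intro c d hc hd
    have : ∀ a : ZMod (2 ^ n), (ψ (c * a) - 1) * (ψ (d * a) - 1) =
        ψ ((c + d) * a) - ψ (c * a) - ψ (d * a) + 1 := fun a => by
      rw [add_mul, AddChar.map_add_eq_mul]; ring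
    simp only [this, Finset.sum_add_distrib, Finset.sum_sub_distrib, sum_char hψ, if_neg hc,
      if_neg hd, Finset.sum_const, Finset.card_univ, ZMod.card, nsmul_eq_mul]
    split_ifs <;> push_cast <;> ring
  simp only [hF, hH, mul_neg, neg_neg, ← neg_mul]
  rw [expand (-i) (-j) (neg_ne_zero.2 hi) (neg_ne_zero.2 hj), expand (-i) j (neg_ne_zero.2 hi) hj]
  simp only [neg_add_eq_zero]
  split_ifs <;> field_simp <;> ring

/-- Fourier inversion. -/
theorem rotVal_eq_sum (hψ : ψ.IsPrimitive) (χ : IrrCharacter G) {a : ZMod (2 ^ n)} (ha : a ≠ 0) :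
    rotVal x χ a = ∑ j : ZMod (2 ^ n), coef x ψ χ j * ψ (j * a) := by
  simp only [coef, Finset.mul_sum, Finset.sum_mul]
  rw [Finset.sum_comm]
  have e : ∀ b : ZMod (2 ^ n), ∑ j : ZMod (2 ^ n),
      ((2 : ℂ) ^ n)⁻¹ * (rotVal x χ b * (ψ (-(j * b)) - 1)) * ψ (j * a) =
      if b = a then rotVal x χ b else 0 := by
    intro b
    have : ∀ j : ZMod (2 ^ n), ((2 : ℂ) ^ n)⁻¹ * (rotVal x χ b * (ψ (-(j * b)) - 1)) * ψ (j * a) =
        ((2 : ℂ) ^ n)⁻¹ * rotVal x χ b * (ψ ((a - b) * j) - ψ (a * j)) := fun j => by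
      rw [show (a - b) * j = -(j * b) + j * a by ring, AddChar.map_add_eq_mul, mul_comm j a]
      ring
    simp only [this, ← Finset.mul_sum, Finset.sum_sub_distrib, sum_char hψ, if_neg ha, sub_zero]
    by_cases hb : b = a
    · rw [if_pos (sub_eq_zero.2 hb.symm), if_pos hb]
      field_simp
    · rw [if_neg fun e => hb (sub_eq_zero.1 e).symm, if_neg hb, mul_zero]
  simp only [e, Finset.sum_ite_eq', Finset.mem_univ, if_true]

/-- The coefficients are orthogonal to the 2-regular columns. -/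
theorem sum_coef_regular (h : IsDihGen (S : Subgroup G) n x y) (hM : IsPModular 2 M)
    (j : ZMod (2 ^ n)) {r : G} (hr : ¬ 2 ∣ orderOf r) :
    ∑ χ ∈ B0 M, coef x ψ χ j * (χ : G → ℂ) r = 0 := by
  simp only [coef, Finset.mul_sum, Finset.sum_mul]
  rw [Finset.sum_comm]
  refine Finset.sum_eq_zero fun a _ => ?_
  by_cases ha : a = 0
  · subst ha; simp
  have e : ∀ χ : IrrCharacter G,
      ((2 : ℂ) ^ n)⁻¹ * (rotVal x χ a * (ψ (-(j * a)) - 1)) * (χ : G → ℂ) r =
      ((2 : ℂ) ^ n)⁻¹ * (ψ (-(j * a)) - 1) * (rotVal x χ a * (χ : G → ℂ) r) := fun χ => by ring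
  simp only [e, ← Finset.mul_sum, sum_rotVal_regular h hM ha hr, mul_zero]

end CfsgLib.DihedralBlock
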